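import Mathlib.Algebra.Group.Subgroup.Pointwise
import Mathlib.GroupTheory.QuotientGroup.Basic
import Mathlib.Tactic.Group
import Mathlib.GroupTheory.OrderOfElement
import Mathlib.Data.Int.ModEq
import Mathlib.Tactic.Set

/-!
Gluing a homomorphism on a normalised subgroup with one on a normalising subgroup.
-/

set_option autoImplicit false

namespace CfsgLib.ExtraExt

open Subgroup
open scoped Pointwise

universe u v

variable {G : Type u} [Group G] {M : Type v} [Monoid M]

theorem glue {A B : Subgroup G} (hB : B ≤ normalizer (A : Set G)) (f : ↥A →* M) (g : ↥B →* M)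
    (hc : ∀ (b : ↥B) (a a' : ↥A), (a' : G) = b * a * (b : G)⁻¹ → g b * f a = f a' * g b)
    (hag : ∀ (a : ↥A) (b : ↥B), (a : G) = b → f a = g b) :
    ∃ h : ↥(A ⊔ B) →* M, (∀ (a : ↥A) (x : ↥(A ⊔ B)), (x : G) = a → h x = f a) ∧
      ∀ (b : ↥B) (x : ↥(A ⊔ B)), (x : G) = b → h x = g b := by
  have hmem : ∀ x : ↥(A ⊔ B), ∃ p : ↥A × ↥B, (x : G) = (p.1 : G) * p.2 := by
    intro x
    have hx : (x : G) ∈ ((A ⊔ B : Subgroup G) : Set G) := x.2
    rw [coe_mul_of_right_le_normalizer_left A B hB] at hx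
    obtain ⟨a, ha, b, hb, hab⟩ := hx
    exact ⟨(⟨a, ha⟩, ⟨b, hb⟩), hab.symm⟩
  choose p hp using hmem
  have key : ∀ (x : ↥(A ⊔ B)) (a : ↥A) (b : ↥B), (x : G) = (a : G) * b →
      f (p x).1 * g (p x).2 = f a * g b := by
    intro x a b h
    have h2 : ((p x).1 : G) * (p x).2 = (a : G) * b := (hp x).symm.trans h
    have h3 : ((a⁻¹ * (p x).1 : ↥A) : G) = ((b * (p x).2⁻¹ : ↥B) : G) := by
      simp only [Subgroup.coe_mul, InvMemClass.coe_inv]
      rw [eq_mul_inv_iff_mul_eq, mul_assoc, h2, inv_mul_cancel_left]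
    have h4 := hag _ _ h3
    calc f (p x).1 * g (p x).2 = f (a * (a⁻¹ * (p x).1)) * g (p x).2 := by rw [mul_inv_cancel_left]
      _ = f a * (g (b * (p x).2⁻¹) * g (p x).2) := by rw [map_mul, mul_assoc, h4]
      _ = f a * g b := by rw [← map_mul, inv_mul_cancel_right]
  let F : ↥(A ⊔ B) → M := fun x => f (p x).1 * g (p x).2
  have hone : F 1 = 1 := by
    have := key 1 1 1 (by simp)
    simpa [F] using this
  have hmul : ∀ x y, F (x * y) = F x * F y := by
    intro x y
    set a := (p x).1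
    set b := (p x).2
    set a₂ := (p y).1
    set b₂ := (p y).2
    have ha' : (b : G) * a₂ * (b : G)⁻¹ ∈ A := (mem_normalizer_iff.1 (hB b.2) a₂).1 a₂.2
    have h1 : ((x * y : ↥(A ⊔ B)) : G) = ((a * ⟨_, ha'⟩ : ↥A) : G) * ((b * b₂ : ↥B) : G) := by
      simp only [Subgroup.coe_mul]
      rw [hp x, hp y]
      simp only [a, b, a₂, b₂]
      group
    calc F (x * y) = f (a * ⟨_, ha'⟩) * g (b * b₂) := key _ _ _ h1
      _ = f a * (f ⟨_, ha'⟩ * g b) * g b₂ := by rw [map_mul, map_mul]; simp only [mul_assoc]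
      _ = f a * (g b * f a₂) * g b₂ := by rw [hc b a₂ ⟨_, ha'⟩ rfl]
      _ = F x * F y := by simp only [F, a, b, a₂, b₂, mul_assoc]
  refine ⟨{ toFun := F, map_one' := hone, map_mul' := hmul }, fun a x hx => ?_, fun b x hx => ?_⟩
  · show F x = f a
    have := key x a 1 (by simp [hx])
    simpa [F] using this
  · show F x = g b
    have := key x 1 b (by simp [hx])
    simpa [F] using this

omit [Monoid M] in
/-- The homomorphism `g ^ j ↦ q ^ j` on a cyclic group. -/
theorem cyclic_hom {U : Type v} [Group U] (g : G) (q : U) (h : q ^ orderOf g = 1) :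
    ∃ f : ↥(zpowers g) →* U, ∀ (j : ℤ) (x : ↥(zpowers g)), (x : G) = g ^ j → f x = q ^ j := by
  have key : ∀ i j : ℤ, g ^ i = g ^ j → q ^ i = q ^ j := by
    intro i j hij
    rw [zpow_eq_zpow_iff_modEq] at hij ⊢
    exact hij.of_dvd (Int.natCast_dvd_natCast.2 (orderOf_dvd_of_pow_eq_one h))
  choose j hj using fun x : ↥(zpowers g) => mem_zpowers_iff.1 x.2
  refine ⟨{ toFun := fun x => q ^ j x
            map_one' := by
              rw [← zpow_zero q]
              exact key _ _ (by rw [hj, zpow_zero]; rfl)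
            map_mul' := fun x y => by
              rw [← zpow_add]
              exact key _ _ (by rw [zpow_add, hj, hj, hj]; rfl) }, fun i x hx => ?_⟩
  exact key _ _ ((hj x).trans hx)

end CfsgLib.ExtraExt
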