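import Mathlib.LinearAlgebra.Trace
import Mathlib.LinearAlgebra.Determinant
import Mathlib.RingTheory.RootsOfUnity.Complex
import Mathlib.NumberTheory.LegendreSymbol.AddCharacter

/-!
Idempotents attached to an endomorphism of prime order.
-/

set_option autoImplicit false
set_option linter.style.haveILetI false

open Module

namespace CfsgLib.ExtraExt

/-- The determinant of a scalar on the range of an idempotent. -/
theorem det_smul_idem {V : Type*} [AddCommGroup V] [Module ℂ V] [FiniteDimensional ℂ V]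
    {E : Module.End ℂ V} (hE : E * E = E) (c : ℂ) :
    ∃ d : ℕ, (d : ℂ) = LinearMap.trace ℂ V E ∧ LinearMap.det (c • E + (1 - E)) = c ^ d := by
  have hp : LinearMap.IsProj (LinearMap.range E) E :=
    ⟨fun x => ⟨x, rfl⟩, fun x hx => by
      obtain ⟨y, rfl⟩ := hx
      exact LinearMap.congr_fun hE y⟩
  have hc : IsCompl (LinearMap.range E) (LinearMap.ker E) := hp.isCompl
  refine ⟨finrank ℂ (LinearMap.range E), (hp.trace).symm, ?_⟩
  let e := Submodule.prodEquivOfIsCompl _ _ hc
  have heq : (c • E + (1 - E)) = e.toLinearMap ∘ₗ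
      ((c • LinearMap.id).prodMap LinearMap.id) ∘ₗ e.symm.toLinearMap := by
    refine LinearMap.ext fun v => ?_
    obtain ⟨⟨x, y⟩, rfl⟩ := e.surjective v
    have hx : E (x : V) = x := hp.map_id _ x.2
    have hy : E (y : V) = 0 := y.2
    simp [e, hx, hy]
  rw [heq, LinearMap.det_conj, LinearMap.det_prodMap, LinearMap.det_smul]
  simp

variable (r : ℕ) [Fact r.Prime]

/-- A nontrivial additive character of `ZMod r`. -/
theorem exists_char : ∃ ω : ZMod r → ℂ, ω 0 = 1 ∧ (∀ a b, ω (a + b) = ω a * ω b) ∧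
    (∀ a, starRingEnd ℂ (ω a) = ω (-a)) ∧
    ∀ a : ZMod r, a ≠ 0 → ∑ b : ZMod r, ω (a * b) = 0 := by
  classical
  have hr : r ≠ 0 := (Fact.out : r.Prime).ne_zero
  haveI : NeZero r := ⟨hr⟩
  have hζ := Complex.isPrimitiveRoot_exp r hr
  set ψ := AddChar.zmodChar r hζ.pow_eq_one with hψ
  have hprim := AddChar.zmodChar_primitive_of_primitive_root r hζ
  refine ⟨ψ, ψ.map_zero_eq_one, ψ.map_add_eq_mul, fun a => ?_, fun a ha => ?_⟩
  · rw [AddChar.map_neg_eq_conj]
  · have h := AddChar.sum_mulShift (R := ZMod r) (R' := ℂ) a hprim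
    rw [if_neg ha] at h
    simp only [Nat.cast_zero] at h
    exact (Finset.sum_congr rfl fun b _ => by rw [mul_comm]).trans h

end CfsgLib.ExtraExt
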