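import Cfsg.Agent.Lib.ExtraExt.Basic
import Cfsg.Agent.Lib.ExtraExt.Glue
import Cfsg.Agent.Lib.ExtraExt.Idem
import Cfsg.Agent.Lib.Char.Basic
import Mathlib.RingTheory.IntegralDomain
import Mathlib.FieldTheory.IsAlgClosed.Basic
import Mathlib.Analysis.Complex.Polynomial.Basic

/-!
The fixed-point-free base case: an element of odd prime order acting on `F` with fixed points `{1, z}`,
normalised by a `2`-group `S`; the normalised lift of `S`.
-/

set_option autoImplicit false
set_option linter.style.haveILetI false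
set_option linter.unusedSectionVars false
set_option maxHeartbeats 3200000

open Module Subgroup ComplexConjugate

namespace CfsgLib.ExtraExt

universe u

variable {G : Type u} [Group G] [Finite G] {z : G} {F : Subgroup G} {n : ℕ}
  {ρ : Representation ℂ F (Fin n → ℂ)} [ρ.IsIrreducible]

theorem trace_mul_conj (hF : Nice z F) (hz : ρ hF.zel = -1) {u : (Module.End ℂ (Fin n → ℂ))ˣ}
    (hu : IsOfFinOrder u) {x : G} (hxN : x ∈ normalizer (F : Set G))
    (hX : Implements ρ x (u : Module.End ℂ (Fin n → ℂ)))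
    (hfix : ∀ f ∈ F, (x * f * x⁻¹ = f ∨ x * f * x⁻¹ = z * f) → f = 1 ∨ f = z) :
    LinearMap.trace ℂ (Fin n → ℂ) u * conj (LinearMap.trace ℂ (Fin n → ℂ) u) = 1 := by
  classical
  haveI : Fintype F := Fintype.ofFinite F
  haveI : Finite ↥(zpowers u) := hu.finite_zpowers
  let σ : Representation ℂ ↥(zpowers u) (Fin n → ℂ) := (Units.coeHom _).comp (zpowers u).subtype
  have hinv : LinearMap.trace ℂ (Fin n → ℂ) (↑u⁻¹ : Module.End ℂ (Fin n → ℂ)) =
      conj (LinearMap.trace ℂ (Fin n → ℂ) u) :=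
    Char.character_inv σ ⟨u, mem_zpowers u⟩
  rw [← hinv]
  have hn : (n : ℂ) ≠ 0 := by
    have := Char.finrank_pos_of_irreducible ρ
    rw [Module.finrank_fin_fun] at this
    exact Nat.cast_ne_zero.2 this.ne'
  have hc : ∀ f : F, x * (f : G) * x⁻¹ ∈ F := fun f => (mem_normalizer_iff.1 hxN f).1 f.2
  have h1 : ∀ f : F, LinearMap.trace ℂ (Fin n → ℂ)
      ((u : Module.End ℂ (Fin n → ℂ)) * (ρ f * (↑u⁻¹ : Module.End ℂ (Fin n → ℂ)) * ρ f⁻¹)) =
      ρ.character (⟨x * (f : G) * x⁻¹, hc f⟩ * f⁻¹) := by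
    intro f
    show _ = LinearMap.trace ℂ (Fin n → ℂ) (ρ (⟨x * (f : G) * x⁻¹, hc f⟩ * f⁻¹))
    congr 1
    rw [← mul_assoc, ← mul_assoc, hX f ⟨_, hc f⟩ rfl, mul_assoc (ρ _), Units.mul_inv, mul_one,
      map_mul]
  have hsum := congrArg (fun T : Module.End ℂ (Fin n → ℂ) =>
    LinearMap.trace ℂ (Fin n → ℂ) ((u : Module.End ℂ (Fin n → ℂ)) * T))
    (average_eq (ρ := ρ) (↑u⁻¹ : Module.End ℂ (Fin n → ℂ)))
  simp only [Finset.mul_sum, map_sum, mul_smul_comm, mul_one, map_smul, smul_eq_mul, h1] at hsum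
  rw [← Finset.sum_subset (Finset.subset_univ {1, hF.zel}) (fun f _ hf => by
    rw [Finset.mem_insert, Finset.mem_singleton, not_or] at hf
    refine hF.char_zero hz (fun h => ?_) (fun h => ?_)
    · rw [mul_inv_eq_one] at h
      exact (hfix f f.2 (Or.inl (congrArg Subtype.val h))).elim
        (fun e => hf.1 (Subtype.ext e)) (fun e => hf.2 (Subtype.ext e))
    · rw [mul_inv_eq_iff_eq_mul] at h
      exact (hfix f f.2 (Or.inr (congrArg Subtype.val h))).elim
        (fun e => hf.1 (Subtype.ext e)) (fun e => hf.2 (Subtype.ext e))),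
    Finset.sum_pair hF.zel_ne.symm] at hsum
  have e1 : (⟨x * ((1 : F) : G) * x⁻¹, hc 1⟩ : F) * (1 : F)⁻¹ = 1 := Subtype.ext (by simp)
  have e2 : (⟨x * (hF.zel : G) * x⁻¹, hc hF.zel⟩ : F) * hF.zel⁻¹ = 1 := Subtype.ext (by
    show x * z * x⁻¹ * z⁻¹ = 1
    rw [Subgroup.mem_center_iff.1 hF.zc x]; group)
  rw [e1, e2, Representation.char_one, Module.finrank_fin_fun, ← Nat.card_eq_fintype_card,
    hF.card_eq hz] at hsum
  push_cast at hsum
  field_simp at hsum
  refine mul_left_cancel₀ (two_ne_zero : (2 : ℂ) ≠ 0) ?_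
  linear_combination -hsum

/-- The projector of `P` at the character value `i`. -/
noncomputable def proj {r : ℕ} [NeZero r] (ω : ZMod r → ℂ) (P : Module.End ℂ (Fin n → ℂ))
    (i : ZMod r) : Module.End ℂ (Fin n → ℂ) :=
  (r : ℂ)⁻¹ • ∑ b : ZMod r, ω (i * b) • P ^ b.val

section Proj

variable {r : ℕ} [Fact r.Prime] {ω : ZMod r → ℂ} (hω0 : ω 0 = 1)
  (hωa : ∀ a b, ω (a + b) = ω a * ω b) (hωc : ∀ a, conj (ω a) = ω (-a))
  (hωs : ∀ a : ZMod r, a ≠ 0 → ∑ b : ZMod r, ω (a * b) = 0)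
  {P : Module.End ℂ (Fin n → ℂ)} (hP : P ^ r = 1)

include hP in
theorem pow_val_add (a b : ZMod r) : P ^ (a + b).val = P ^ a.val * P ^ b.val := by
  rw [← pow_add, ZMod.val_add, ← pow_eq_pow_mod _ hP]

include hω0 hωa hP in
theorem pow_mul_proj (c i : ZMod r) : P ^ c.val * proj ω P i = ω (-(i * c)) • proj ω P i := by
  rw [proj, mul_smul_comm, Finset.mul_sum, smul_comm (ω (-(i * c))) ((r : ℂ)⁻¹)]
  congr 1
  rw [Finset.smul_sum]
  refine Fintype.sum_equiv (Equiv.addLeft c) _ _ fun b => ?_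
  rw [Equiv.coe_addLeft, pow_val_add hP, mul_smul_comm, smul_smul, ← hωa]
  congr 2
  ring

include hω0 hωa hP in
theorem proj_idem (i : ZMod r) : proj ω P i * proj ω P i = proj ω P i := by
  conv_lhs => arg 1; rw [proj]
  rw [smul_mul_assoc, Finset.sum_mul]
  simp only [smul_mul_assoc, pow_mul_proj hω0 hωa hP, smul_smul, ← hωa, add_neg_cancel, hω0,
    one_smul, Finset.sum_const, Finset.card_univ, ZMod.card]
  rw [← Nat.cast_smul_eq_nsmul ℂ, smul_smul,
    inv_mul_cancel₀ (Nat.cast_ne_zero.2 (Fact.out : r.Prime).ne_zero), one_smul]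

include hω0 hωa hωc hωs in
/-- Parseval for the traces against the projectors. -/
theorem parseval (t : ZMod r → ℂ) :
    (r : ℂ) * ∑ i : ZMod r, ((r : ℂ)⁻¹ * ∑ b, ω (i * b) * t b) *
        conj ((r : ℂ)⁻¹ * ∑ b, ω (i * b) * t b) = ∑ b, t b * conj (t b) := by
  have hr : (r : ℂ) ≠ 0 := Nat.cast_ne_zero.2 (Fact.out : r.Prime).ne_zero
  have h : ∀ i : ZMod r, ((r : ℂ)⁻¹ * ∑ b, ω (i * b) * t b) *
      conj ((r : ℂ)⁻¹ * ∑ b, ω (i * b) * t b) =
      (r : ℂ)⁻¹ * (r : ℂ)⁻¹ * ∑ b, ∑ c, (ω (i * b) * ω (-(i * c))) * (t b * conj (t c)) := by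
    intro i
    rw [map_mul, map_inv₀, map_natCast, map_sum, mul_mul_mul_comm, Finset.sum_mul_sum]
    congr 1
    refine Finset.sum_congr rfl fun b _ => Finset.sum_congr rfl fun c _ => ?_
    rw [map_mul, hωc]; ring
  simp only [h, ← Finset.mul_sum]
  rw [Finset.sum_comm]
  have h2 : ∀ b : ZMod r, ∑ i : ZMod r, ∑ c, (ω (i * b) * ω (-(i * c))) * (t b * conj (t c)) =
      (r : ℂ) * (t b * conj (t b)) := by
    intro b
    rw [Finset.sum_comm, Finset.sum_eq_single b]
    · rw [← Finset.sum_mul]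
      congr 1
      have : ∀ i : ZMod r, ω (i * b) * ω (-(i * b)) = 1 := fun i => by
        rw [← hωa, add_neg_cancel, hω0]
      simp [this]
    · intro c _ hc
      rw [← Finset.sum_mul]
      have : ∑ i : ZMod r, ω (i * b) * ω (-(i * c)) = 0 := by
        rw [← hωs (b - c) (sub_ne_zero.2 (Ne.symm hc))]
        refine Finset.sum_congr rfl fun i _ => ?_
        rw [← hωa]; congr 1; ring
      rw [this, zero_mul]
    · simp
  simp only [h2, ← Finset.mul_sum]
  field_simp

end Proj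

omit [Finite G] [ρ.IsIrreducible] in
theorem even_pow_iterate {x : G} {f : G} (hz' : z ∈ center G) (h : x * f * x⁻¹ = z * f) (j : ℕ) :
    x ^ j * f * (x ^ j)⁻¹ = z ^ j * f := by
  induction j with
  | zero => simp
  | succ j ih =>
    calc x ^ (j + 1) * f * (x ^ (j + 1))⁻¹ = x * (x ^ j * f * (x ^ j)⁻¹) * x⁻¹ := by
          rw [pow_succ']; group
      _ = (x * z ^ j) * f * x⁻¹ := by rw [ih, mul_assoc x (z ^ j) f]
      _ = (z ^ j * x) * f * x⁻¹ := by
          rw [mem_center_iff.1 (pow_mem hz' j) x]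
      _ = z ^ j * (x * f * x⁻¹) := by simp only [mul_assoc]
      _ = z ^ (j + 1) * f := by rw [h, ← mul_assoc, pow_succ]

/-- The base case. -/
theorem base (hF : Nice z F) (hz : ρ hF.zel = -1) (hn : Even n) {r : ℕ} [hrp : Fact r.Prime]
    (hr2 : r ≠ 2) (k : G) (hkN : k ∈ normalizer (F : Set G))
    (hkr : ∀ f ∈ F, k ^ r * f * (k ^ r)⁻¹ = f)
    (hfix : ∀ f ∈ F, k * f * k⁻¹ = f → f = 1 ∨ f = z)
    (S : Subgroup G) (hS : IsPGroup 2 S) (hSN : S ≤ normalizer (F : Set G))
    (hSk : ∀ s ∈ S, ∃ a : ℕ, ∀ f ∈ F,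
      (s * k * s⁻¹) * f * (s * k * s⁻¹)⁻¹ = k ^ a * f * (k ^ a)⁻¹) :
    HasLift z F S := by
  classical
  have hr : r.Prime := hrp.out
  haveI : NeZero r := ⟨hr.ne_zero⟩
  obtain ⟨ω, hω0, hωa, hωc, hωs⟩ := exists_char r
  have hrC : (r : ℂ) ≠ 0 := Nat.cast_ne_zero.2 hr.ne_zero
  have hnpos : 0 < n := by
    have := Char.finrank_pos_of_irreducible ρ
    rwa [Module.finrank_fin_fun] at this
  have hnC : (n : ℂ) ≠ 0 := Nat.cast_ne_zero.2 hnpos.ne'
  obtain ⟨l, hl⟩ := hS.exists_card_eq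
  obtain ⟨N, hN⟩ : ∃ N : ℕ, N = 2 ^ (l + 1) := ⟨_, rfl⟩
  have hNS : ∀ s ∈ S, s ^ N = 1 := by
    intro s hs
    have h1 : (⟨s, hs⟩ : S) ^ Nat.card S = 1 := pow_card_eq_one'
    rw [hl] at h1
    have h2 : s ^ 2 ^ l = 1 := congrArg Subtype.val h1
    rw [hN, pow_succ, pow_mul, h2, one_pow]
  have hNeven : Even N := by rw [hN]; exact ⟨2 ^ l, by ring⟩
  have hNpos : 0 < N := by rw [hN]; positivity
  have hrN : ¬ r ∣ N := fun h =>
    hr2 ((Nat.prime_dvd_prime_iff_eq hr Nat.prime_two).1 (hr.dvd_of_dvd_pow (hN ▸ h)))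
  have hkpN : ∀ a : ℕ, k ^ a ∈ normalizer (F : Set G) := fun a => pow_mem hkN a
  -- fixed points of the powers of `k`
  have hkj : ∀ a b : ℕ, (a : ZMod r) = b → ∀ f ∈ F,
      k ^ a * f * (k ^ a)⁻¹ = k ^ b * f * (k ^ b)⁻¹ := by
    have h1 : ∀ c : ℕ, ∀ f ∈ F, k ^ (r * c) * f * (k ^ (r * c))⁻¹ = f := by
      intro c f hf
      induction c with
      | zero => simp
      | succ c ih =>
        rw [Nat.mul_succ, pow_add]
        calc k ^ (r * c) * k ^ r * f * (k ^ (r * c) * k ^ r)⁻¹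
            = k ^ (r * c) * (k ^ r * f * (k ^ r)⁻¹) * (k ^ (r * c))⁻¹ := by group
          _ = f := by rw [hkr f hf, ih]
    have h2 : ∀ a : ℕ, ∀ f ∈ F,
        k ^ a * f * (k ^ a)⁻¹ = k ^ (a % r) * f * (k ^ (a % r))⁻¹ := by
      intro a f hf
      conv_lhs => rw [← Nat.mod_add_div a r, pow_add]
      calc k ^ (a % r) * k ^ (r * (a / r)) * f * (k ^ (a % r) * k ^ (r * (a / r)))⁻¹
          = k ^ (a % r) * (k ^ (r * (a / r)) * f * (k ^ (r * (a / r)))⁻¹) * (k ^ (a % r))⁻¹ := by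
            group
        _ = _ := by rw [h1 _ f hf]
    intro a b hab f hf
    rw [h2 a f hf, h2 b f hf, (ZMod.natCast_eq_natCast_iff' a b r).1 hab]
  have hfixpow : ∀ a : ℕ, ¬ r ∣ a → ∀ f ∈ F, k ^ a * f * (k ^ a)⁻¹ = f → f = 1 ∨ f = z := by
    intro a ha f hf h
    have ha' : (a : ZMod r) ≠ 0 := by rwa [Ne, ZMod.natCast_eq_zero_iff]
    apply hfix f hf
    have h1 : ∀ c : ℕ, k ^ (a * c) * f * (k ^ (a * c))⁻¹ = f := by
      intro c
      induction c with
      | zero => simp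
      | succ c ih =>
        rw [Nat.mul_succ, pow_add]
        calc k ^ (a * c) * k ^ a * f * (k ^ (a * c) * k ^ a)⁻¹
            = k ^ (a * c) * (k ^ a * f * (k ^ a)⁻¹) * (k ^ (a * c))⁻¹ := by group
          _ = f := by rw [h, ih]
    have h2 := hkj (a * ((a : ZMod r)⁻¹).val) 1 (by
      rw [Nat.cast_mul, ZMod.natCast_zmod_val, mul_inv_cancel₀ ha', Nat.cast_one]) f hf
    rw [h1, pow_one] at h2
    exact h2.symm
  -- the part of `S` centralising the action of `k`
  let S₀ : Subgroup G :=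
    { carrier := {s | s ∈ S ∧ ∀ f ∈ F, (s * k * s⁻¹) * f * (s * k * s⁻¹)⁻¹ = k * f * k⁻¹}
      one_mem' := ⟨one_mem _, fun f _ => by simp⟩
      mul_mem' := fun {s t} hs ht => ⟨mul_mem hs.1 ht.1, fun f hf => by
        have hf' : s⁻¹ * f * s ∈ F := by
          have := (mem_normalizer_iff.1 (inv_mem (hSN hs.1)) f).1 hf
          rwa [inv_inv] at this
        calc (s * t * k * (s * t)⁻¹) * f * (s * t * k * (s * t)⁻¹)⁻¹
            = s * ((t * k * t⁻¹) * (s⁻¹ * f * s) * (t * k * t⁻¹)⁻¹) * s⁻¹ := by group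
          _ = s * (k * (s⁻¹ * f * s) * k⁻¹) * s⁻¹ := by rw [ht.2 _ hf']
          _ = (s * k * s⁻¹) * f * (s * k * s⁻¹)⁻¹ := by group
          _ = _ := hs.2 f hf⟩
      inv_mem' := fun {s} hs => ⟨inv_mem hs.1, fun f hf => by
        have hf' : s * f * s⁻¹ ∈ F := (mem_normalizer_iff.1 (hSN hs.1) f).1 hf
        calc (s⁻¹ * k * s⁻¹⁻¹) * f * (s⁻¹ * k * s⁻¹⁻¹)⁻¹
            = s⁻¹ * (k * (s * f * s⁻¹) * k⁻¹) * s := by group
          _ = s⁻¹ * ((s * k * s⁻¹) * (s * f * s⁻¹) * (s * k * s⁻¹)⁻¹) * s := by rw [hs.2 _ hf']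
          _ = _ := by group⟩ }
  -- `P`
  obtain ⟨X, hXu, hX⟩ := exists_implements hF hz hkN
  have hXpow : ∀ a : ℕ, Implements ρ (k ^ a) (X ^ a) := by
    intro a
    induction a with
    | zero => simpa using Implements.one ρ
    | succ a ih => rw [pow_succ, pow_succ]; exact ih.mul hkN hX
  obtain ⟨c₀, hc₀⟩ := implements_unique (X := (1 : Module.End ℂ (Fin n → ℂ))) (Y := X ^ r)
    (hkpN r) (fun f f' h => by
      rw [show f' = f from Subtype.ext (h.trans (hkr f f.2)), one_mul, mul_one]) (hXpow r) isUnit_one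
  have hc₀0 : c₀ ≠ 0 := by
    intro h
    rw [h, zero_smul] at hc₀
    have hu := hXu.pow r
    rw [hc₀] at hu
    haveI : Nontrivial (Fin n → ℂ) :=
      Module.nontrivial_of_finrank_pos (R := ℂ) (by rw [Module.finrank_fin_fun]; exact hnpos)
    exact not_isUnit_zero hu
  obtain ⟨c₁, hc₁⟩ := IsAlgClosed.exists_pow_nat_eq c₀⁻¹ hr.pos
  obtain ⟨P₀, hP₀r, hP₀⟩ : ∃ P₀ : Module.End ℂ (Fin n → ℂ),
      P₀ ^ r = 1 ∧ ∀ a : ℕ, Implements ρ (k ^ a) (P₀ ^ a) :=
    ⟨c₁ • X, by rw [smul_pow, hc₁, hc₀, smul_smul, inv_mul_cancel₀ hc₀0, one_smul],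
      fun a => by rw [smul_pow]; exact (hXpow a).smul _⟩
  have hnormal : ∀ (P : Module.End ℂ (Fin n → ℂ)), P ^ r = 1 → IsUnit P := fun P h =>
    IsUnit.of_pow_eq_one h hr.ne_zero
  -- the modulus of the traces
  have hmod : ∀ (P : Module.End ℂ (Fin n → ℂ)), P ^ r = 1 →
      (∀ a : ℕ, Implements ρ (k ^ a) (P ^ a)) → ∀ (a : ℕ), ¬ r ∣ a → ∀ (s : G), s ∈ S₀ →
      ∀ u : (Module.End ℂ (Fin n → ℂ))ˣ, IsOfFinOrder u → Implements ρ s (u : Module.End ℂ _) →
      Commute P (u : Module.End ℂ (Fin n → ℂ)) →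
      LinearMap.trace ℂ (Fin n → ℂ) (P ^ a * (u : Module.End ℂ (Fin n → ℂ))) *
        conj (LinearMap.trace ℂ (Fin n → ℂ) (P ^ a * (u : Module.End ℂ (Fin n → ℂ)))) = 1 := by
    intro P hPr hPi a ha s hs u hu hui hcomm
    have hPu := (hnormal P hPr).pow a
    have hfin : IsOfFinOrder (hPu.unit * u) := by
      refine Commute.isOfFinOrder_mul ?_ ?_ hu
      · exact Units.ext (hcomm.pow_left a).eq
      · refine isOfFinOrder_iff_pow_eq_one.2 ⟨r, hr.pos, Units.ext ?_⟩
        rw [Units.val_pow_eq_pow_val, IsUnit.unit_spec, ← pow_mul, mul_comm, pow_mul, hPr, one_pow,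
          Units.val_one]
    refine trace_mul_conj hF hz (u := hPu.unit * u) hfin (x := k ^ a * s)
      (mul_mem (hkpN a) (hSN hs.1)) ?_ ?_
    · rw [Units.val_mul, IsUnit.unit_spec]
      exact (hPi a).mul (hSN hs.1) hui
    · intro f hf hh
      set x := k ^ a * s with hx
      -- `x` acts on `F` as `k ^ a` times `s`, commuting
      have hsk : ∀ g ∈ F, s * (k * g * k⁻¹) * s⁻¹ = k * (s * g * s⁻¹) * k⁻¹ := by
        intro g hg
        have hg' : s * g * s⁻¹ ∈ F := (mem_normalizer_iff.1 (hSN hs.1) g).1 hg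
        rw [← hs.2 _ hg']; group
      have hska : ∀ b : ℕ, ∀ g ∈ F,
          s * (k ^ b * g * (k ^ b)⁻¹) * s⁻¹ = k ^ b * (s * g * s⁻¹) * (k ^ b)⁻¹ := by
        intro b
        induction b with
        | zero => intro g _; simp
        | succ b ih =>
          intro g hg
          have hg' : k ^ b * g * (k ^ b)⁻¹ ∈ F := (mem_normalizer_iff.1 (hkpN b) g).1 hg
          calc s * (k ^ (b + 1) * g * (k ^ (b + 1))⁻¹) * s⁻¹
              = s * (k * (k ^ b * g * (k ^ b)⁻¹) * k⁻¹) * s⁻¹ := by rw [pow_succ']; group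
            _ = k * (s * (k ^ b * g * (k ^ b)⁻¹) * s⁻¹) * k⁻¹ := hsk _ hg'
            _ = k * (k ^ b * (s * g * s⁻¹) * (k ^ b)⁻¹) * k⁻¹ := by rw [ih g hg]
            _ = _ := by rw [pow_succ']; group
      have hxj : ∀ j : ℕ, ∀ g ∈ F,
          x ^ j * g * (x ^ j)⁻¹ = k ^ (a * j) * (s ^ j * g * (s ^ j)⁻¹) * (k ^ (a * j))⁻¹ := by
        intro j
        induction j with
        | zero => intro g _; simp
        | succ j ih =>
          intro g hg
          have hg' : s ^ j * g * (s ^ j)⁻¹ ∈ F :=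
            (mem_normalizer_iff.1 (pow_mem (hSN hs.1) j) g).1 hg
          calc x ^ (j + 1) * g * (x ^ (j + 1))⁻¹ = x * (x ^ j * g * (x ^ j)⁻¹) * x⁻¹ := by
                rw [pow_succ']; group
            _ = k ^ a * (s * (k ^ (a * j) * (s ^ j * g * (s ^ j)⁻¹) * (k ^ (a * j))⁻¹) * s⁻¹) *
                (k ^ a)⁻¹ := by rw [ih g hg, hx]; group
            _ = k ^ a * (k ^ (a * j) * (s * (s ^ j * g * (s ^ j)⁻¹) * s⁻¹) * (k ^ (a * j))⁻¹) *
                (k ^ a)⁻¹ := by rw [hska (a * j) _ hg']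
            _ = _ := by rw [Nat.mul_succ, add_comm, pow_add, pow_succ']; group
      have hzN : z ^ N = 1 := by
        obtain ⟨c, hc⟩ := hNeven
        rw [hc, pow_add, ← (Commute.refl z).mul_pow, hF.zz, one_pow]
      have h3 : x ^ N * f * (x ^ N)⁻¹ = f := by
        rcases hh with h | h
        · have hxf : Commute x f := mul_inv_eq_iff_eq_mul.1 h
          rw [(hxf.pow_left N).eq, mul_inv_cancel_right]
        · rw [even_pow_iterate hF.zc h N, hzN, one_mul]
      rw [hxj N f hf, hNS s hs.1] at h3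
      simp only [one_mul, inv_one, mul_one] at h3
      exact hfixpow (a * N) (fun h => (hr.dvd_mul.1 h).elim ha hrN) f hf h3
  -- multiplicities at `1`
  set t₀ : ZMod r → ℂ := fun b => LinearMap.trace ℂ (Fin n → ℂ) (P₀ ^ b.val) with ht₀
  have hint : ∀ i, ∃ m : ℕ, (m : ℂ) = (r : ℂ)⁻¹ * ∑ b, ω (i * b) * t₀ b := by
    intro i
    obtain ⟨m, hm, -⟩ := det_smul_idem (proj_idem hω0 hωa hP₀r i) 1
    refine ⟨m, hm.trans ?_⟩
    simp [proj, t₀, map_sum]
  choose m hm using hint
  have ht00 : t₀ 0 = n := by simp [t₀, LinearMap.trace_one]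
  have h1S₀ : (1 : G) ∈ S₀ := one_mem _
  have ht01 : ∀ b : ZMod r, b ≠ 0 → t₀ b * conj (t₀ b) = 1 := by
    intro b hb
    have h := hmod P₀ hP₀r hP₀ b.val (fun h => hb (by
      rw [← ZMod.natCast_zmod_val b, (ZMod.natCast_eq_zero_iff _ _).2 h])) 1 h1S₀ 1
      IsOfFinOrder.one (by rw [Units.val_one]; exact Implements.one ρ) (Commute.one_right _)
    simpa [t₀] using h
  have hpars := parseval hω0 hωa hωc hωs t₀
  simp only [← hm, map_natCast] at hpars
  have htsum : ∑ b, t₀ b * conj (t₀ b) = (n : ℂ) * n + ((r - 1 : ℕ) : ℂ) := by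
    rw [← Finset.add_sum_erase _ _ (Finset.mem_univ (0 : ZMod r)), Finset.sum_congr rfl
      (s₂ := Finset.univ.erase (0 : ZMod r)) (g := fun _ => (1 : ℂ))
      (fun b hb => ht01 b (Finset.mem_erase.1 hb).1), ht00, map_natCast, Finset.sum_const,
      Finset.card_erase_of_mem (Finset.mem_univ _), Finset.card_univ, ZMod.card, nsmul_one]
  rw [htsum] at hpars
  have hsq : (r : ℤ) * ∑ i, (m i : ℤ) * m i = (n : ℤ) * n + ((r : ℤ) - 1) := by
    have h : (((r : ℤ) * ∑ i, (m i : ℤ) * m i : ℤ) : ℂ) = (((n : ℤ) * n + ((r : ℤ) - 1) : ℤ) : ℂ) := by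
      push_cast
      rw [hpars, Nat.cast_sub hr.one_le, Nat.cast_one]
    exact_mod_cast h
  have hsum : ∑ i, (m i : ℤ) = n := by
    have h : ((∑ i, (m i : ℤ) : ℤ) : ℂ) = ((n : ℤ) : ℂ) := by
      push_cast
      simp only [hm, ← Finset.mul_sum]
      rw [Finset.sum_comm, Finset.sum_eq_single (0 : ZMod r)]
      · rw [← Finset.sum_mul]
        simp [hω0, ht00, hrC]
      · intro b _ hb
        rw [← Finset.sum_mul, show ∑ i : ZMod r, ω (i * b) = 0 by
          rw [← hωs b hb]; exact Finset.sum_congr rfl fun i _ => by rw [mul_comm], zero_mul]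
      · simp
    exact_mod_cast h
  obtain ⟨e, q, he, hnq⟩ : ∃ e q : ℤ, (e = 1 ∨ e = -1) ∧ (n : ℤ) = q * r + e := by
    have hd : (r : ℤ) ∣ ((n : ℤ) - 1) * ((n : ℤ) + 1) :=
      ⟨(∑ i, (m i : ℤ) * m i) - 1, by linear_combination -hsq⟩
    rcases (Nat.prime_iff_prime_int.1 hr).dvd_mul.1 hd with ⟨q, hq⟩ | ⟨q, hq⟩
    · exact ⟨1, q, Or.inl rfl, by linear_combination hq⟩
    · exact ⟨-1, q, Or.inr rfl, by linear_combination hq⟩
  have hee : e * e = 1 := by rcases he with rfl | rfl <;> rfl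
  have hqodd : Odd q := by
    by_contra hq
    rw [Int.not_odd_iff_even] at hq
    have h1 : Even ((n : ℤ)) := by exact_mod_cast hn
    rw [hnq, Int.even_add] at h1
    have h2 := h1.1 (hq.mul_right _)
    rcases he with rfl | rfl <;> exact absurd h2 (by decide)
  obtain ⟨i₀, hi₀⟩ : ∃ i₀, ∀ i, (m i : ℤ) = q + if i = i₀ then e else 0 := by
    have h1 : ∑ i, ((m i : ℤ) - q) = e := by
      rw [Finset.sum_sub_distrib, hsum, Finset.sum_const, Finset.card_univ, ZMod.card,
        nsmul_eq_mul]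
      linear_combination hnq
    have h2 : (r : ℤ) * ∑ i, ((m i : ℤ) - q) * ((m i : ℤ) - q) = (r : ℤ) * 1 := by
      simp only [sub_mul, mul_sub, Finset.sum_sub_distrib, ← Finset.mul_sum, ← Finset.sum_mul, hsum,
        Finset.sum_const, Finset.card_univ, ZMod.card, nsmul_eq_mul, mul_one]
      linear_combination hsq + ((n : ℤ) - q * r + e) * hnq + hee
    have h3 : ∑ i, ((m i : ℤ) - q) * ((m i : ℤ) - q) = 1 :=
      mul_left_cancel₀ (Int.natCast_ne_zero.2 hr.ne_zero) h2
    obtain ⟨i₀, hne⟩ : ∃ i₀, (m i₀ : ℤ) - q ≠ 0 := by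
      by_contra hall
      push Not at hall
      simp [hall] at h3
    refine ⟨i₀, fun i => ?_⟩
    have h4 : ∀ i, i ≠ i₀ → (m i : ℤ) - q = 0 := by
      intro j hj
      by_contra hj0
      have hle : ((m j : ℤ) - q) * ((m j : ℤ) - q) + ((m i₀ : ℤ) - q) * ((m i₀ : ℤ) - q) ≤ 1 := by
        rw [← h3, ← Finset.sum_pair hj (f := fun i => ((m i : ℤ) - q) * ((m i : ℤ) - q))]
        exact Finset.sum_le_sum_of_subset_of_nonneg (Finset.subset_univ _)
          fun a _ _ => mul_self_nonneg _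
      have := mul_self_pos.2 hj0
      have := mul_self_pos.2 hne
      omega
    split_ifs with h
    · subst h
      rw [Finset.sum_eq_single i (fun j _ hj => h4 j hj) (by simp)] at h1
      linarith
    · linarith [h4 i h]
  have ht₀val : ∀ b : ZMod r, b ≠ 0 → t₀ b = (e : ℂ) * ω (-(i₀ * b)) := by
    intro b hb
    have h1 : ∀ c : ZMod r, ∑ i : ZMod r, ω (-(i * b)) * ω (i * c) = if c = b then (r : ℂ) else 0 := by
      intro c
      simp only [← hωa]
      split_ifs with h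
      · simp [h, hω0]
      · rw [← hωs (c - b) (sub_ne_zero.2 h)]
        exact Finset.sum_congr rfl fun i _ => congrArg ω (by ring)
    have h2 : ∑ i : ZMod r, ω (-(i * b)) * ((r : ℂ) * (m i : ℂ)) = (r : ℂ) * t₀ b := by
      simp only [hm, mul_inv_cancel_left₀ hrC, Finset.mul_sum, ← mul_assoc]
      rw [Finset.sum_comm]
      simp only [← Finset.sum_mul, h1]
      simp
    have h3 : ∑ i : ZMod r, ω (-(i * b)) = 0 := by
      rw [← hωs (-b) (neg_ne_zero.2 hb)]
      exact Finset.sum_congr rfl fun i _ => congrArg ω (by ring)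
    have hmC : ∀ i, (m i : ℂ) = (q : ℂ) + if i = i₀ then (e : ℂ) else 0 := by
      intro i
      have := congrArg (fun x : ℤ => (x : ℂ)) (hi₀ i)
      simpa [apply_ite (fun x : ℤ => (x : ℂ))] using this
    simp only [hmC, mul_add, Finset.sum_add_distrib, ← Finset.sum_mul, h3, zero_mul, zero_add,
      mul_ite, mul_zero, Finset.sum_ite_eq', Finset.mem_univ, if_true] at h2
    exact mul_left_cancel₀ hrC (by linear_combination -h2)
  -- the normalised `P`
  obtain ⟨P, hPdef⟩ : ∃ P, P = ω i₀ • P₀ := ⟨_, rfl⟩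
  have hωpow : ∀ (i : ZMod r) (a : ℕ), ω i ^ a = ω (a * i) := by
    intro i a
    induction a with
    | zero => simp [hω0]
    | succ a ih => rw [pow_succ, ih, ← hωa]; congr 1; push_cast; ring
  have hPr : P ^ r = 1 := by
    rw [hPdef, smul_pow, hωpow, hP₀r, ZMod.natCast_self, zero_mul, hω0, one_smul]
  have hPi : ∀ a : ℕ, Implements ρ (k ^ a) (P ^ a) := fun a => by
    rw [hPdef, smul_pow]; exact (hP₀ a).smul _
  have htP : ∀ b : ZMod r, b ≠ 0 → LinearMap.trace ℂ (Fin n → ℂ) (P ^ b.val) = (e : ℂ) := by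
    intro b hb
    rw [hPdef, smul_pow, hωpow, map_smul, smul_eq_mul, ZMod.natCast_zmod_val]
    show ω (b * i₀) * t₀ b = _
    rw [ht₀val b hb, mul_left_comm, ← hωa, mul_comm b, add_neg_cancel, hω0, mul_one]
  have hPa : ∀ a : ℕ, P ^ a = P ^ (a : ZMod r).val := fun a => by
    rw [ZMod.val_natCast, ← pow_eq_pow_mod _ hPr]
  have heC : (e : ℂ) ≠ 0 := Int.cast_ne_zero.2 (by rcases he with rfl | rfl <;> decide)
  -- conjugation of `P`
  have hconjP : ∀ (s : G) (a : ℕ) (u : (Module.End ℂ (Fin n → ℂ))ˣ), s ∈ normalizer (F : Set G) →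
      (∀ f ∈ F, (s * k * s⁻¹) * f * (s * k * s⁻¹)⁻¹ = k ^ a * f * (k ^ a)⁻¹) →
      Implements ρ s (u : Module.End ℂ (Fin n → ℂ)) →
      (u : Module.End ℂ (Fin n → ℂ)) * P * (↑u⁻¹ : Module.End ℂ (Fin n → ℂ)) = P ^ a := by
    intro s a u hsN hsa hu
    have hinv : Implements ρ s⁻¹ (↑u⁻¹ : Module.End ℂ (Fin n → ℂ)) := by
      intro f f' h
      have h2 := hu f' f (by rw [h]; group)
      calc (↑u⁻¹ : Module.End ℂ (Fin n → ℂ)) * ρ f = ↑u⁻¹ * (ρ f * ↑u) * ↑u⁻¹ := by simp [mul_assoc]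
        _ = _ := by rw [← h2]; simp
    have himp : Implements ρ (k ^ a)
        ((u : Module.End ℂ (Fin n → ℂ)) * P * (↑u⁻¹ : Module.End ℂ (Fin n → ℂ))) := by
      have hk1 := hPi 1
      rw [pow_one, pow_one] at hk1
      have h := (hu.mul hkN hk1).mul (inv_mem hsN) hinv
      intro f f' hff
      exact h f f' (hff.trans (hsa f f.2).symm)
    obtain ⟨c, hc⟩ := implements_unique (hkpN a) (hPi a) himp ((hnormal P hPr).pow a)
    have h1 : LinearMap.trace ℂ (Fin n → ℂ)
        ((u : Module.End ℂ (Fin n → ℂ)) * P * (↑u⁻¹ : Module.End ℂ (Fin n → ℂ))) = e := by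
      rw [LinearMap.trace_mul_comm, ← mul_assoc, Units.inv_mul, one_mul]
      have := htP 1 one_ne_zero
      rwa [ZMod.val_one, pow_one] at this
    have ha : (a : ZMod r) ≠ 0 := by
      intro h0
      obtain ⟨g, hg, hg1, hgz⟩ : ∃ g ∈ F, g ≠ 1 ∧ g ≠ z := by
        by_contra hno
        push Not at hno
        haveI : Fintype F := Fintype.ofFinite F
        have hle : Nat.card F ≤ 2 := by
          rw [Nat.card_eq_fintype_card, ← Finset.card_univ]
          refine (Finset.card_le_card (t := {1, hF.zel}) fun g _ => ?_).trans Finset.card_le_two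
          rw [Finset.mem_insert, Finset.mem_singleton]
          by_cases h : (g : G) = 1
          · exact Or.inl (Subtype.ext h)
          · exact Or.inr (Subtype.ext (hno g g.2 h))
        rw [hF.card_eq hz] at hle
        obtain ⟨c, hc⟩ := hn
        subst hc
        have h2 : 2 ≤ c + c := by omega
        nlinarith [Nat.mul_le_mul h2 h2]
      have hf' : s * (k * (s⁻¹ * g * s) * k⁻¹) * s⁻¹ = g := by
        calc s * (k * (s⁻¹ * g * s) * k⁻¹) * s⁻¹ = (s * k * s⁻¹) * g * (s * k * s⁻¹)⁻¹ := by group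
          _ = g := by rw [hsa g hg, hkj a 0 (by rw [h0, Nat.cast_zero]) g hg]; simp
      have hmemF : s⁻¹ * g * s ∈ F := by
        have := (mem_normalizer_iff.1 (inv_mem hsN) g).1 hg
        rwa [inv_inv] at this
      have hfixg : k * (s⁻¹ * g * s) * k⁻¹ = s⁻¹ * g * s := by
        conv_rhs => rw [← hf']
        group
      rcases hfix _ hmemF hfixg with h | h
      · exact hg1 (by
          calc g = s * (s⁻¹ * g * s) * s⁻¹ := by group
            _ = 1 := by rw [h]; group)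
      · exact hgz (by
          calc g = s * (s⁻¹ * g * s) * s⁻¹ := by group
            _ = z := by rw [h, mem_center_iff.1 hF.zc s, mul_inv_cancel_right])
    rw [hc, map_smul, smul_eq_mul, hPa a, htP _ ha] at h1
    rw [hc, show c = 1 from mul_right_cancel₀ heC (h1.trans (one_mul _).symm), one_smul]
  have hcommP : ∀ (s : G) (u : (Module.End ℂ (Fin n → ℂ))ˣ), s ∈ S₀ →
      Implements ρ s (u : Module.End ℂ (Fin n → ℂ)) → Commute P (u : Module.End ℂ (Fin n → ℂ)) := by
    intro s u hs hu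
    have h := hconjP s 1 u (hSN hs.1) (fun f hf => by rw [pow_one]; exact hs.2 f hf) hu
    rw [pow_one] at h
    exact ((Units.mul_inv_eq_iff_eq_mul u).1 h).symm
  -- the projectors of `P`
  let E : ZMod r → Module.End ℂ (Fin n → ℂ) := proj ω P
  have hE : ∀ i, E i * E i = E i := proj_idem hω0 hωa hPr
  have htrE : ∀ i, LinearMap.trace ℂ (Fin n → ℂ) (E i) = (q : ℂ) + if i = 0 then (e : ℂ) else 0 := by
    intro i
    simp only [E, proj, map_smul, map_sum, smul_eq_mul]
    rw [← Finset.add_sum_erase _ _ (Finset.mem_univ (0 : ZMod r)), Finset.sum_congr rfl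
      (s₂ := Finset.univ.erase (0 : ZMod r)) (g := fun b => ω (i * b) * (e : ℂ))
      (fun b hb => by rw [htP b (Finset.mem_erase.1 hb).1]), ← Finset.sum_mul,
      Finset.sum_erase_eq_sub (Finset.mem_univ _), mul_zero, hω0, ZMod.val_zero, pow_zero,
      LinearMap.trace_one, Module.finrank_fin_fun]
    have hq : (n : ℂ) = q * r + e := by
      have := congrArg (fun x : ℤ => (x : ℂ)) hnq
      simpa using this
    split_ifs with h
    · subst h
      simp only [zero_mul, hω0, Finset.sum_const, Finset.card_univ, ZMod.card, nsmul_one]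
      rw [hq]; field_simp; ring
    · rw [hωs i h, hq]; field_simp; ring
  -- the finite group of normalised implementers
  let W : Subgroup (G × (Module.End ℂ (Fin n → ℂ))ˣ) :=
    { carrier := {w | w.1 ∈ S₀ ∧ Implements ρ w.1 (w.2 : Module.End ℂ (Fin n → ℂ)) ∧
        LinearMap.det (w.2 : Module.End ℂ (Fin n → ℂ)) ^ N = 1}
      one_mem' := ⟨one_mem _, Implements.one ρ, by simp⟩
      mul_mem' := fun {v w} hv hw => ⟨mul_mem hv.1 hw.1, hv.2.1.mul (hSN hw.1.1) hw.2.1, by
        simp only [Prod.snd_mul, Units.val_mul, map_mul, mul_pow, hv.2.2, hw.2.2, mul_one]⟩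
      inv_mem' := fun {v} hv => ⟨inv_mem hv.1, fun f f' h => by
          have h2 := hv.2.1 f' f (by rw [h, Prod.fst_inv]; group)
          calc ((v⁻¹).2 : Module.End ℂ (Fin n → ℂ)) * ρ f
              = ↑(v.2⁻¹) * (ρ f * ↑v.2) * ↑(v.2⁻¹) := by simp [mul_assoc]
            _ = _ := by rw [← h2]; simp, by
        have h2 : LinearMap.det ((v⁻¹).2 : Module.End ℂ (Fin n → ℂ)) *
            LinearMap.det (v.2 : Module.End ℂ (Fin n → ℂ)) = 1 := by
          rw [← map_mul, Prod.snd_inv, Units.inv_mul, map_one]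
        have := congrArg (· ^ N) h2
        simpa [mul_pow, hv.2.2] using this⟩ }
  have hscal : ∀ w ∈ W, w.1 = 1 → ∃ c : ℂ, (w.2 : Module.End ℂ (Fin n → ℂ)) = c • 1 ∧
      c ^ (n * N) = 1 := by
    intro w hw h1
    obtain ⟨c, hc⟩ := implements_unique (one_mem _) (Implements.one ρ)
      (show Implements ρ 1 (w.2 : Module.End ℂ (Fin n → ℂ)) from h1 ▸ hw.2.1) isUnit_one
    refine ⟨c, hc, ?_⟩
    have := hw.2.2
    rwa [hc, LinearMap.det_smul, map_one, mul_one, Module.finrank_fin_fun, ← pow_mul] at this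
  haveI hWfin : Finite W := by
    let π : W →* G := (MonoidHom.fst G _).comp W.subtype
    haveI : Finite π.ker := by
      have hnN : 0 < n * N := Nat.mul_pos hnpos hNpos
      have hfin : Set.Finite {c : ℂ | c ^ (n * N) = 1} := by
        refine Set.Finite.subset (Polynomial.nthRoots (n * N) (1 : ℂ)).toFinset.finite_toSet ?_
        intro c hc
        simpa [Polynomial.mem_nthRoots hnN] using hc
      haveI := hfin.to_subtype
      choose c hc hcp using fun w : π.ker => hscal w.1.1 w.1.2 w.2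
      refine Finite.of_injective (fun w => (⟨c w, hcp w⟩ : {c : ℂ | c ^ (n * N) = 1})) ?_
      intro v w h
      have h' : c v = c w := congrArg Subtype.val h
      refine Subtype.ext (Subtype.ext (Prod.ext (v.2.trans w.2.symm) (Units.ext ?_)))
      rw [hc v, hc w, h']
    haveI : Finite (W ⧸ π.ker) := Finite.of_equiv _ (QuotientGroup.quotientKerEquivRange π).symm.toEquiv
    exact Finite.of_subgroup_quotient π.ker
  haveI : Fintype W := Fintype.ofFinite W
  have hWE : ∀ (w : W) (i : ZMod r), Commute (E i) (w.1.2 : Module.End ℂ (Fin n → ℂ)) := by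
    intro w i
    refine Commute.smul_left (Commute.sum_left _ _ _ fun b _ => Commute.smul_left ?_ _) _
    exact (hcommP _ _ w.2.1 w.2.2.1).pow_left _
  let π : ZMod r → Representation ℂ W (Fin n → ℂ) := fun i =>
    { toFun := fun w => (w.1.2 : Module.End ℂ (Fin n → ℂ)) * E i + (1 - E i)
      map_one' := by simp
      map_mul' := fun v w => by
        have h1 := hE i
        have h2 := (hWE w i).eq
        have h3 : (1 - E i) * (w.1.2 : Module.End ℂ (Fin n → ℂ)) * E i = 0 := by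
          rw [mul_assoc, ← h2, ← mul_assoc, sub_mul, one_mul, h1, sub_self, zero_mul]
        simp only [Subgroup.coe_mul, Prod.snd_mul, Units.val_mul, mul_add, add_mul]
        have e1 : (v.1.2 : Module.End ℂ (Fin n → ℂ)) * E i * ((w.1.2 : Module.End ℂ (Fin n → ℂ)) * E i)
            = (v.1.2 : Module.End ℂ (Fin n → ℂ)) * (w.1.2 : Module.End ℂ (Fin n → ℂ)) * E i := by
          rw [mul_assoc (v.1.2 : Module.End ℂ (Fin n → ℂ)), ← mul_assoc (E i), h2, mul_assoc, h1,
            ← mul_assoc]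
        have e2 : (v.1.2 : Module.End ℂ (Fin n → ℂ)) * E i * (1 - E i) = 0 := by
          rw [mul_assoc, mul_sub, mul_one, h1, sub_self, mul_zero]
        have e3 : (1 - E i) * (1 - E i) = 1 - E i := by
          rw [sub_mul, one_mul, mul_sub, mul_one, h1, sub_self, sub_zero]
        rw [e1, ← mul_assoc (1 - E i), h3, e2, e3, add_zero, zero_add] }
  let f : ZMod r → W → ℂ := fun i w =>
    LinearMap.trace ℂ (Fin n → ℂ) ((w.1.2 : Module.End ℂ (Fin n → ℂ)) * E i)
  have hπf : ∀ i w, (π i).character w = f i w + ((n : ℂ) - LinearMap.trace ℂ _ (E i)) := by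
    intro i w
    show LinearMap.trace ℂ _ ((w.1.2 : Module.End ℂ (Fin n → ℂ)) * E i + (1 - E i)) = _
    rw [map_add, map_sub, LinearMap.trace_one, Module.finrank_fin_fun]
  have hnorm : ∀ i j : ZMod r, ∃ M : ℕ,
      ∑ w : W, (f i w - f j w) * conj (f i w - f j w) = (Nat.card W : ℂ) * M := by
    intro i j
    obtain ⟨a, ha⟩ : ∃ a : ℤ, ∀ w, f i w - f j w =
        (π i).character w - (π j).character w + (a : ℂ) := by
      obtain ⟨di, hdi, -⟩ := det_smul_idem (hE i) 1
      obtain ⟨dj, hdj, -⟩ := det_smul_idem (hE j) 1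
      refine ⟨(di : ℤ) - dj, fun w => ?_⟩
      rw [hπf, hπf, ← hdi, ← hdj]; push_cast; ring
    obtain ⟨A, hA⟩ := Char.IsCharacter.exists_nat_classInner' (Char.isCharacter_character (π i))
      (Char.isCharacter_character (π i))
    obtain ⟨B, hB⟩ := Char.IsCharacter.exists_nat_classInner' (Char.isCharacter_character (π j))
      (Char.isCharacter_character (π j))
    obtain ⟨C, hC⟩ := Char.IsCharacter.exists_nat_classInner' (Char.isCharacter_character (π i))
      (Char.isCharacter_character (π j))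
    obtain ⟨C', hC'⟩ := Char.IsCharacter.exists_nat_classInner' (Char.isCharacter_character (π j))
      (Char.isCharacter_character (π i))
    let ι : Representation ℂ W (Fin 1 → ℂ) := 1
    obtain ⟨Di, hDi⟩ := Char.IsCharacter.exists_nat_classInner' (Char.isCharacter_character (π i))
      (Char.isCharacter_character ι)
    obtain ⟨Dj, hDj⟩ := Char.IsCharacter.exists_nat_classInner' (Char.isCharacter_character (π j))
      (Char.isCharacter_character ι)
    obtain ⟨Di', hDi'⟩ := Char.IsCharacter.exists_nat_classInner' (Char.isCharacter_character ι)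
      (Char.isCharacter_character (π i))
    obtain ⟨Dj', hDj'⟩ := Char.IsCharacter.exists_nat_classInner' (Char.isCharacter_character ι)
      (Char.isCharacter_character (π j))
    have hι : ∀ w : W, ι.character w = 1 := fun w => by
      simp [ι, Representation.character]
    have hcard : (Nat.card W : ℂ) ≠ 0 := Nat.cast_ne_zero.2 Nat.card_pos.ne'
    unfold Cfsg.classInner at hA hB hC hC' hDi hDj hDi' hDj'
    rw [inv_mul_eq_iff_eq_mul₀ hcard] at hA hB hC hC' hDi hDj hDi' hDj'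
    simp only [hι, map_one, mul_one, one_mul] at hDi hDj hDi' hDj'
    have h : ∑ w : W, (f i w - f j w) * conj (f i w - f j w) = (Nat.card W : ℂ) *
        (((A : ℤ) + B - C - C' + a * (Di - Dj + Di' - Dj') + a * a : ℤ) : ℂ) := by
      simp only [ha, map_add, map_sub, map_intCast, mul_add, add_mul, sub_mul, mul_sub,
        Finset.sum_add_distrib, Finset.sum_sub_distrib, ← Finset.sum_mul, ← Finset.mul_sum,
        hA, hB, hC, hC', hDi, hDj, hDi', hDj', Finset.sum_const, Finset.card_univ, nsmul_eq_mul,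
        ← Nat.card_eq_fintype_card]
      push_cast; ring
    refine ⟨((A : ℤ) + B - C - C' + a * (Di - Dj + Di' - Dj') + a * a).toNat, ?_⟩
    have h0 : (0 : ℝ) ≤ (∑ w : W, (f i w - f j w) * conj (f i w - f j w)).re := by
      rw [Complex.re_sum]
      refine Finset.sum_nonneg fun w _ => ?_
      rw [Complex.mul_conj, Complex.ofReal_re]
      exact Complex.normSq_nonneg _
    rw [h] at h0 ⊢
    set A' := (A : ℤ) + B - C - C' + a * (Di - Dj + Di' - Dj') + a * a
    have h1 : (0 : ℝ) ≤ (Nat.card W : ℝ) * (A' : ℝ) := by simpa using h0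
    have hA' : 0 ≤ A' := by
      exact_mod_cast (mul_nonneg_iff_of_pos_left (by exact_mod_cast Nat.card_pos)).1 h1
    congr 1
    exact_mod_cast (Int.toNat_of_nonneg hA').symm
  choose M hM using hnorm
  have hMsum : ∑ i : ZMod r, ∑ j : ZMod r, M i j = 2 * (r - 1) := by
    have hptw : ∀ w : W, ∑ i : ZMod r, ∑ j : ZMod r, (f i w - f j w) * conj (f i w - f j w) =
        2 * ((r : ℂ) - 1) := by
      intro w
      let t : ZMod r → ℂ := fun b =>
        LinearMap.trace ℂ (Fin n → ℂ) (P ^ b.val * (w.1.2 : Module.End ℂ (Fin n → ℂ)))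
      have hf : ∀ i, f i w = (r : ℂ)⁻¹ * ∑ b, ω (i * b) * t b := by
        intro i
        simp only [f, E, proj, mul_smul_comm, Finset.mul_sum, map_smul, map_sum, smul_eq_mul, t]
        exact Finset.sum_congr rfl fun b _ => by rw [LinearMap.trace_mul_comm]
      have hp := parseval hω0 hωa hωc hωs t
      simp only [← hf] at hp
      have hfin : IsOfFinOrder w.1.2 :=
        ((MonoidHom.snd G _).comp W.subtype).isOfFinOrder (isOfFinOrder_of_finite w)
      have ht : ∀ b, b ≠ 0 → t b * conj (t b) = 1 := fun b hb =>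
        hmod P hPr hPi b.val (fun h => hb (by
          rw [← ZMod.natCast_zmod_val b, (ZMod.natCast_eq_zero_iff _ _).2 h])) w.1.1 w.2.1
          w.1.2 hfin w.2.2.1 (hcommP _ _ w.2.1 w.2.2.1)
      have hs : ∑ i, f i w = t 0 := by
        simp only [hf, ← Finset.mul_sum]
        rw [Finset.sum_comm, Finset.sum_eq_single (0 : ZMod r)]
        · simp [hω0, hrC]
        · intro b _ hb
          rw [← Finset.sum_mul, show ∑ i : ZMod r, ω (i * b) = 0 by
            rw [← hωs b hb]; exact Finset.sum_congr rfl fun i _ => by rw [mul_comm], zero_mul]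
        · simp
      have htsum : ∑ b, t b * conj (t b) = t 0 * conj (t 0) + ((r : ℂ) - 1) := by
        rw [← Finset.add_sum_erase _ _ (Finset.mem_univ (0 : ZMod r)), Finset.sum_congr rfl
          (s₂ := Finset.univ.erase (0 : ZMod r)) (g := fun _ => (1 : ℂ))
          (fun b hb => ht b (Finset.mem_erase.1 hb).1), Finset.sum_const,
          Finset.card_erase_of_mem (Finset.mem_univ _), Finset.card_univ, ZMod.card, nsmul_one,
          Nat.cast_sub hr.one_le, Nat.cast_one]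
      rw [htsum] at hp
      have hs' : conj (t 0) = ∑ i, conj (f i w) := by rw [← hs, map_sum]
      simp only [map_sub, sub_mul, mul_sub, Finset.sum_sub_distrib, Finset.sum_const,
        Finset.card_univ, ZMod.card, nsmul_eq_mul, ← Finset.mul_sum, ← Finset.sum_mul, hs, ← hs']
      linear_combination 2 * hp
    have h : (Nat.card W : ℂ) * ((∑ i : ZMod r, ∑ j : ZMod r, M i j : ℕ) : ℂ) =
        (Nat.card W : ℂ) * (((2 * (r - 1) : ℕ)) : ℂ) := by
      push_cast [Nat.cast_sub hr.one_le]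
      simp only [Finset.mul_sum, ← hM]
      rw [Finset.sum_congr rfl fun i _ => Finset.sum_comm, Finset.sum_comm]
      simp only [hptw, Finset.sum_const, Finset.card_univ, nsmul_eq_mul, ← Nat.card_eq_fintype_card]
    exact Nat.cast_injective (mul_left_cancel₀ (Nat.cast_ne_zero.2 Nat.card_pos.ne') h)
  have hfeq : ∀ i j : ZMod r, i ≠ 0 → j ≠ 0 → ∀ w, f i w = f j w := by
    have hpos : ∀ j : ZMod r, j ≠ 0 → 1 ≤ M 0 j ∧ 1 ≤ M j 0 := by
      intro j hj
      have key : ∀ a b : ZMod r, f a 1 ≠ f b 1 → 1 ≤ M a b := by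
        intro a b hab
        by_contra hlt
        have h0 := hM a b
        rw [show M a b = 0 by omega, Nat.cast_zero, mul_zero] at h0
        have h1 : (∑ w : W, (f a w - f b w) * conj (f a w - f b w)).re = 0 := by rw [h0]; rfl
        rw [Complex.re_sum, Finset.sum_eq_zero_iff_of_nonneg (fun w _ => by
          rw [Complex.mul_conj, Complex.ofReal_re]; exact Complex.normSq_nonneg _)] at h1
        have h2 := h1 1 (Finset.mem_univ _)
        rw [Complex.mul_conj, Complex.ofReal_re, Complex.normSq_eq_zero, sub_eq_zero] at h2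
        exact hab h2
      have h1 : f 0 1 ≠ f j 1 := by
        simp only [f, OneMemClass.coe_one, Prod.snd_one, Units.val_one, one_mul, htrE, if_pos,
          if_neg hj, add_zero]
        simpa using heC
      exact ⟨key 0 j h1, key j 0 h1.symm⟩
    intro i j hi hj
    by_contra hne
    push Not at hne
    obtain ⟨w, hw⟩ := hne
    have hMij : 1 ≤ M i j := by
      by_contra hlt
      have h0 := hM i j
      rw [show M i j = 0 by omega, Nat.cast_zero, mul_zero] at h0
      have h1 : (∑ w : W, (f i w - f j w) * conj (f i w - f j w)).re = 0 := by rw [h0]; rfl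
      rw [Complex.re_sum, Finset.sum_eq_zero_iff_of_nonneg (fun w _ => by
        rw [Complex.mul_conj, Complex.ofReal_re]; exact Complex.normSq_nonneg _)] at h1
      have h2 := h1 w (Finset.mem_univ _)
      rw [Complex.mul_conj, Complex.ofReal_re, Complex.normSq_eq_zero, sub_eq_zero] at h2
      exact hw h2
    have hrow0 : r - 1 ≤ ∑ b : ZMod r, M 0 b := by
      have : ∑ b ∈ Finset.univ.erase (0 : ZMod r), 1 ≤ ∑ b : ZMod r, M 0 b :=
        le_trans (Finset.sum_le_sum fun b hb => (hpos b (Finset.mem_erase.1 hb).1).1)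
          (Finset.sum_le_sum_of_subset (Finset.erase_subset _ _))
      simpa using this
    have hrest : r ≤ ∑ a ∈ Finset.univ.erase (0 : ZMod r), ∑ b : ZMod r, M a b := by
      have h1 : ∑ a ∈ Finset.univ.erase (0 : ZMod r), (1 + if a = i then 1 else 0) ≤
          ∑ a ∈ Finset.univ.erase (0 : ZMod r), ∑ b : ZMod r, M a b := by
        refine Finset.sum_le_sum fun a ha => ?_
        have ha0 := (Finset.mem_erase.1 ha).1
        split_ifs with h
        · subst h
          refine le_trans (le_of_le_of_eq (add_le_add (hpos a ha0).2 hMij)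
            (Finset.sum_pair hj.symm).symm) (Finset.sum_le_sum_of_subset (Finset.subset_univ _))
        · exact le_trans (hpos a ha0).2 (Finset.single_le_sum (f := fun b => M a b)
            (fun b _ => Nat.zero_le _) (Finset.mem_univ _))
      simp [Finset.sum_add_distrib, hi] at h1
      have := hr.two_le
      omega
    rw [← Finset.add_sum_erase _ _ (Finset.mem_univ (0 : ZMod r))] at hMsum
    have := hr.two_le
    omega
  -- the determinant on a nontrivial eigenspace
  let D : W →* ℂ := (LinearMap.det).comp (π 1)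
  have hDeq : ∀ i : ZMod r, i ≠ 0 → ∀ w : W, LinearMap.det (π i w) = D w := by
    intro i hi w
    obtain ⟨ee⟩ := Char.nonempty_equiv_of_character_eq (π i) (π 1) (funext fun v => by
      rw [hπf, hπf, hfeq i 1 hi one_ne_zero, htrE, htrE, if_neg hi, if_neg one_ne_zero])
    show LinearMap.det (π i w) = LinearMap.det (π 1 w)
    have h : π 1 w = ee.toLinearEquiv.toLinearMap ∘ₗ π i w ∘ₗ ee.toLinearEquiv.symm.toLinearMap := by
      refine LinearMap.ext fun v => ?_
      have := ee.toIntertwiningMap.isIntertwining _ _ w (ee.toLinearEquiv.symm v)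
      rw [LinearMap.comp_apply, LinearMap.comp_apply, LinearEquiv.coe_coe, LinearEquiv.coe_coe]
      exact ((this.trans (congrArg (π 1 w) (ee.toLinearEquiv.apply_symm_apply v)))).symm
    rw [h, LinearMap.det_conj]
  obtain ⟨d₁, hd₁, -⟩ := det_smul_idem (hE 1) 1
  have hd₁q : (d₁ : ℤ) = q := by
    have h : ((d₁ : ℤ) : ℂ) = ((q : ℤ) : ℂ) := by
      rw [Int.cast_natCast, hd₁, htrE, if_neg one_ne_zero, add_zero]
    exact_mod_cast h
  have hd₁odd : Odd d₁ := by
    have h : Odd (d₁ : ℤ) := hd₁q ▸ hqodd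
    exact_mod_cast h
  have hDs : ∀ (w : W) (c : ℂ), (w.1.2 : Module.End ℂ (Fin n → ℂ)) = c • 1 → D w = c ^ d₁ := by
    intro w c hc
    obtain ⟨d, hd, hdet⟩ := det_smul_idem (hE 1) c
    obtain rfl : d = d₁ := Nat.cast_injective (hd.trans hd₁.symm)
    show LinearMap.det ((w.1.2 : Module.End ℂ (Fin n → ℂ)) * E 1 + (1 - E 1)) = _
    rw [hc, smul_mul_assoc, one_mul, hdet]
  obtain ⟨m', hm'⟩ : ∃ m', n * N = 2 ^ m' := by
    obtain ⟨a, ha⟩ := hF.pgrp.exists_card_eq
    have h2 : 2 * (n * n) = 2 ^ a := by rw [← hF.card_eq hz, ha]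
    obtain ⟨i, -, hi⟩ := (Nat.dvd_prime_pow Nat.prime_two).1 (h2 ▸ Dvd.intro (2 * n) (by ring) : n ∣ 2 ^ a)
    exact ⟨i + (l + 1), by rw [hi, hN, ← pow_add]⟩
  have hinj : ∀ w : W, w.1.1 = 1 → D w = 1 → w = 1 := by
    intro w hw1 hwD
    obtain ⟨c, hc, hcp⟩ := hscal w.1 w.2 hw1
    have h1 : c ^ d₁ = 1 := (hDs w c hc).symm.trans hwD
    have h2 : c ^ Nat.gcd d₁ (n * N) = 1 := pow_gcd_eq_one.2 ⟨h1, hcp⟩
    rw [hm', ((Nat.coprime_two_right.2 hd₁odd).pow_right m').gcd_eq_one, pow_one] at h2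
    refine Subtype.ext (Prod.ext hw1 (Units.ext ?_))
    rw [hc, h2, one_smul]; rfl
  have hsurj : ∀ s ∈ S₀, ∃ w : W, w.1.1 = s ∧ D w = 1 := by
    intro s hs
    obtain ⟨Y, hYu, hY⟩ := exists_implements hF hz (hSN hs.1)
    have hYpow : ∀ j : ℕ, Implements ρ (s ^ j) (Y ^ j) := by
      intro j
      induction j with
      | zero => simpa using Implements.one ρ
      | succ j ih => rw [pow_succ, pow_succ]; exact ih.mul (hSN hs.1) hY
    obtain ⟨c, hc⟩ := implements_unique (one_mem _) (Implements.one ρ)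
      (hNS s hs.1 ▸ hYpow N) isUnit_one
    have hc0 : c ≠ 0 := by
      intro h
      have hu := hYu.pow N
      rw [hc, h, zero_smul] at hu
      haveI : Nontrivial (Fin n → ℂ) :=
        Module.nontrivial_of_finrank_pos (R := ℂ) (by rw [Module.finrank_fin_fun]; exact hnpos)
      exact not_isUnit_zero hu
    obtain ⟨c', hc'⟩ := IsAlgClosed.exists_pow_nat_eq c⁻¹ hNpos
    have hY'N : (c' • Y) ^ N = 1 := by
      rw [smul_pow, hc', hc, smul_smul, inv_mul_cancel₀ hc0, one_smul]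
    let u : (Module.End ℂ (Fin n → ℂ))ˣ := (IsUnit.of_pow_eq_one hY'N hNpos.ne').unit
    have huv : (u : Module.End ℂ (Fin n → ℂ)) = c' • Y := IsUnit.unit_spec _
    have hmem : (s, u) ∈ W := ⟨hs, by rw [huv]; exact hY.smul c', by
      rw [huv, ← map_pow, hY'N, map_one]⟩
    let w₀ : W := ⟨(s, u), hmem⟩
    have hwN : w₀ ^ N = 1 := Subtype.ext (Prod.ext (hNS s hs.1)
      (Units.ext (by
        show ((u ^ N : (Module.End ℂ (Fin n → ℂ))ˣ) : Module.End ℂ (Fin n → ℂ)) = 1
        rw [Units.val_pow_eq_pow_val, huv, hY'N])))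
    have hDN : D w₀ ^ N = 1 := by rw [← map_pow, hwN, map_one]
    obtain ⟨v, -, hv⟩ := Nat.exists_mul_mod_eq_one_of_coprime
      ((Nat.coprime_two_right.2 hd₁odd).pow_right (l + 1)) (Nat.one_lt_two_pow (by omega))
    set cc := (D w₀)⁻¹ ^ v with hcc
    have hccN : cc ^ N = 1 := by
      rw [hcc, ← pow_mul, mul_comm, pow_mul, inv_pow, hDN, inv_one, one_pow]
    have hccd : cc ^ d₁ = (D w₀)⁻¹ := by
      rw [hcc, ← pow_mul, mul_comm, pow_eq_pow_mod (m := d₁ * v) (n := N)
        (show (D w₀)⁻¹ ^ N = 1 by rw [inv_pow, hDN, inv_one]), hN, hv, pow_one]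
    have hcu : (cc • (1 : Module.End ℂ (Fin n → ℂ))) ^ N = 1 := by
      rw [smul_pow, hccN, one_pow, one_smul]
    let uc : (Module.End ℂ (Fin n → ℂ))ˣ := (IsUnit.of_pow_eq_one hcu hNpos.ne').unit
    have hucv : (uc : Module.End ℂ (Fin n → ℂ)) = cc • 1 := IsUnit.unit_spec _
    have hcmem : ((1 : G), uc) ∈ W := ⟨one_mem _, by rw [hucv]; exact (Implements.one ρ).smul cc, by
      rw [hucv, ← map_pow, hcu, map_one]⟩
    refine ⟨⟨((1 : G), uc), hcmem⟩ * w₀, one_mul s, ?_⟩
    rw [map_mul, hDs ⟨((1 : G), uc), hcmem⟩ cc hucv, hccd, inv_mul_cancel₀]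
    intro h0
    rw [h0, zero_pow hNpos.ne'] at hDN
    exact zero_ne_one hDN
  choose Lw hLw1 hLwD using fun s : S₀ => hsurj s s.2
  let L₀ : S₀ →* (Module.End ℂ (Fin n → ℂ))ˣ := ((MonoidHom.snd G _).comp W.subtype).comp
    { toFun := Lw
      map_one' := hinj _ (hLw1 1) (hLwD 1)
      map_mul' := fun s t => by
        refine mul_inv_eq_one.1 (hinj _ ?_ ?_)
        · simp [hLw1]
        · have h : ∀ a : W, D a = 1 → D a⁻¹ = 1 := fun a ha => by
            rw [← mul_one (D a⁻¹), ← ha, ← map_mul, inv_mul_cancel, map_one, ha]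
          rw [map_mul, hLwD, h _ (by rw [map_mul, hLwD, hLwD, mul_one]), mul_one] }
  -- the cyclic quotient
  have haex : ∀ s : S, ∃ a : ℕ, ∀ f ∈ F,
      ((s : G) * k * (s : G)⁻¹) * f * ((s : G) * k * (s : G)⁻¹)⁻¹ = k ^ a * f * (k ^ a)⁻¹ :=
    fun s => hSk s s.2
  choose av hav using haex
  have hauniq : ∀ a b : ℕ, (∀ f ∈ F, k ^ a * f * (k ^ a)⁻¹ = k ^ b * f * (k ^ b)⁻¹) →
      (a : ZMod r) = b := by
    intro a b hab
    by_contra hne
    have hc : ¬ r ∣ ((a : ZMod r) - (b : ZMod r)).val := fun h => hne (sub_eq_zero.1 (by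
      rw [← ZMod.natCast_zmod_val ((a : ZMod r) - (b : ZMod r)), (ZMod.natCast_eq_zero_iff _ _).2 h]))
    obtain ⟨g, hg, hg1, hgz⟩ : ∃ g ∈ F, g ≠ 1 ∧ g ≠ z := by
      by_contra hno
      push Not at hno
      haveI : Fintype F := Fintype.ofFinite F
      have hle : Nat.card F ≤ 2 := by
        rw [Nat.card_eq_fintype_card, ← Finset.card_univ]
        refine (Finset.card_le_card (t := {1, hF.zel}) fun g _ => ?_).trans Finset.card_le_two
        rw [Finset.mem_insert, Finset.mem_singleton]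
        by_cases h : (g : G) = 1
        · exact Or.inl (Subtype.ext h)
        · exact Or.inr (Subtype.ext (hno g g.2 h))
      rw [hF.card_eq hz] at hle
      obtain ⟨c, hc'⟩ := hn
      subst hc'
      have h2 : 2 ≤ c + c := by omega
      nlinarith [Nat.mul_le_mul h2 h2]
    set c := ((a : ZMod r) - (b : ZMod r)).val with hcdef
    refine (hfixpow c hc g hg ?_).elim hg1 hgz
    have hb' : (k ^ b)⁻¹ * g * k ^ b ∈ F := by
      have := (mem_normalizer_iff.1 (inv_mem (hkpN b)) g).1 hg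
      rwa [inv_inv] at this
    calc k ^ c * g * (k ^ c)⁻¹
        = k ^ (c + b) * ((k ^ b)⁻¹ * g * k ^ b) * (k ^ (c + b))⁻¹ := by rw [pow_add]; group
      _ = k ^ a * ((k ^ b)⁻¹ * g * k ^ b) * (k ^ a)⁻¹ := hkj _ _ (by
          rw [Nat.cast_add, hcdef, ZMod.natCast_zmod_val, sub_add_cancel]) _ hb'
      _ = g := by rw [hab _ hb']; group
  let αM : S →* ZMod r :=
    { toFun := fun s => (av s : ZMod r)
      map_one' := by
        rw [← Nat.cast_one]
        refine hauniq _ _ fun f hf => ?_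
        rw [← hav 1 f hf, pow_one, OneMemClass.coe_one]; group
      map_mul' := fun s t => by
        rw [← Nat.cast_mul]
        refine hauniq _ _ fun f hf => ?_
        rw [← hav (s * t) f hf, Subgroup.coe_mul]
        have hf' : (s : G)⁻¹ * f * s ∈ F := by
          have := (mem_normalizer_iff.1 (inv_mem (hSN s.2)) f).1 hf
          rwa [inv_inv] at this
        have hpow : ∀ j : ℕ, ∀ g ∈ F, ((s : G) * k ^ j * (s : G)⁻¹) * g *
            ((s : G) * k ^ j * (s : G)⁻¹)⁻¹ = k ^ (av s * j) * g * (k ^ (av s * j))⁻¹ := by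
          intro j
          induction j with
          | zero => intro g _; simp
          | succ j ih =>
            intro g hg
            have hg' : k ^ (av s) * g * (k ^ (av s))⁻¹ ∈ F :=
              (mem_normalizer_iff.1 (hkpN _) g).1 hg
            calc ((s : G) * k ^ (j + 1) * (s : G)⁻¹) * g * ((s : G) * k ^ (j + 1) * (s : G)⁻¹)⁻¹
                = ((s : G) * k ^ j * (s : G)⁻¹) * (((s : G) * k * (s : G)⁻¹) * g *
                    ((s : G) * k * (s : G)⁻¹)⁻¹) * ((s : G) * k ^ j * (s : G)⁻¹)⁻¹ := by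
                  rw [pow_succ]; group
              _ = k ^ (av s * j) * (k ^ (av s) * g * (k ^ (av s))⁻¹) * (k ^ (av s * j))⁻¹ := by
                  rw [hav s g hg, ih _ hg']
              _ = _ := by rw [Nat.mul_succ, pow_add]; group
        calc ((s : G) * (t : G) * k * ((s : G) * (t : G))⁻¹) * f *
              ((s : G) * (t : G) * k * ((s : G) * (t : G))⁻¹)⁻¹
            = (s : G) * (((t : G) * k * (t : G)⁻¹) * ((s : G)⁻¹ * f * s) *
                ((t : G) * k * (t : G)⁻¹)⁻¹) * (s : G)⁻¹ := by group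
          _ = (s : G) * (k ^ av t * ((s : G)⁻¹ * f * s) * (k ^ av t)⁻¹) * (s : G)⁻¹ := by
              rw [hav t _ hf']
          _ = ((s : G) * k ^ av t * (s : G)⁻¹) * f * ((s : G) * k ^ av t * (s : G)⁻¹)⁻¹ := by group
          _ = _ := hpow _ f hf }
  let α : S →* (ZMod r)ˣ := αM.toHomUnits
  have hαmem : ∀ s : S, α s = 1 → (s : G) ∈ S₀ := fun s hs => ⟨s.2, fun f hf => by
    have h1 : (av s : ZMod r) = 1 := congrArg Units.val hs
    rw [hav s f hf, hkj (av s) 1 (by rw [h1, Nat.cast_one]) f hf, pow_one]⟩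
  haveI : IsCyclic α.range := inferInstance
  obtain ⟨⟨g₀, hg₀⟩, hgen⟩ := IsCyclic.exists_generator (α := α.range)
  obtain ⟨g, rfl⟩ := hg₀
  have hdec : S₀ ⊔ zpowers (g : G) = S := by
    refine le_antisymm (sup_le (fun x hx => hx.1) (zpowers_le.2 g.2)) fun x hx => ?_
    obtain ⟨j, hj⟩ := mem_zpowers_iff.1 (hgen ⟨α ⟨x, hx⟩, ⟨x, hx⟩, rfl⟩)
    have hj' : α g ^ j = α ⟨x, hx⟩ := congrArg Subtype.val hj
    have h1 := hαmem (⟨x, hx⟩ * g ^ (-j)) (by rw [map_mul, map_zpow, ← hj', zpow_neg, mul_inv_cancel])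
    have h2 : x = ((⟨x, hx⟩ * g ^ (-j) : S) : G) * (g : G) ^ j := by simp
    rw [h2]
    exact mul_mem (mem_sup_left h1) (mem_sup_right (zpow_mem (mem_zpowers _) j))
  have hgnorm : ∀ x ∈ S₀, (g : G) * x * (g : G)⁻¹ ∈ S₀ := by
    intro x hx
    have hα : α ⟨x, hx.1⟩ = 1 := Units.ext (by
      show ((av ⟨x, hx.1⟩ : ℕ) : ZMod r) = 1
      rw [← Nat.cast_one]
      refine hauniq _ _ fun f hf => ?_
      rw [← hav ⟨x, hx.1⟩ f hf, pow_one]
      exact hx.2 f hf)
    exact hαmem (g * ⟨x, hx.1⟩ * g⁻¹) (by rw [map_mul, map_mul, hα, map_inv, mul_one, mul_inv_cancel])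
  obtain ⟨Q₀, hQ₀u, hQ₀⟩ := exists_implements hF hz (hSN g.2)
  have hL₀imp : ∀ s : S₀, Implements ρ (s : G) ((L₀ s : (Module.End ℂ (Fin n → ℂ))ˣ) :
      Module.End ℂ (Fin n → ℂ)) := fun s => by
    have := (Lw s).2.2.1
    rwa [hLw1] at this
  have hanz : (av g : ZMod r) ≠ 0 := (α g).ne_zero
  have hinvar : ∀ u : (Module.End ℂ (Fin n → ℂ))ˣ,
      Implements ρ (g : G) (u : Module.End ℂ (Fin n → ℂ)) →
      ∀ s s' : S₀, (s' : G) = g * s * (g : G)⁻¹ → u * L₀ s = L₀ s' * u := by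
    intro u hu s s' hss
    have hPu := hconjP g (av g) u (hSN g.2) (hav g) hu
    have hmemW : ((g : G) * (Lw s).1.1 * (g : G)⁻¹, u * (Lw s).1.2 * u⁻¹) ∈ W := by
      refine ⟨by rw [hLw1]; exact hgnorm _ s.2, ?_, ?_⟩
      · have hinv : Implements ρ (g : G)⁻¹ (↑u⁻¹ : Module.End ℂ (Fin n → ℂ)) := by
          intro f f' h
          have h2 := hu f' f (by rw [h]; group)
          calc (↑u⁻¹ : Module.End ℂ (Fin n → ℂ)) * ρ f
              = ↑u⁻¹ * (ρ f * ↑u) * ↑u⁻¹ := by simp [mul_assoc]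
            _ = _ := by rw [← h2]; simp
        simp only [Units.val_mul]
        exact (hu.mul (hSN (Lw s).2.1.1) (Lw s).2.2.1).mul (inv_mem (hSN g.2)) hinv
      · rw [Units.val_mul, Units.val_mul, map_mul, map_mul, mul_right_comm, ← map_mul,
          Units.mul_inv, map_one, one_mul]
        exact (Lw s).2.2.2
    have hDw : D ⟨_, hmemW⟩ = 1 := by
      -- conjugation by `u` permutes the nontrivial projectors
      have hE' : (u : Module.End ℂ (Fin n → ℂ)) * E (av g : ZMod r) * (↑u⁻¹ : Module.End ℂ (Fin n → ℂ))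
          = E 1 := by
        simp only [E, proj, mul_smul_comm, smul_mul_assoc, Finset.mul_sum, Finset.sum_mul]
        congr 1
        refine Fintype.sum_equiv (Equiv.mulLeft₀ (av g : ZMod r) hanz) _ _ fun b => ?_
        have hconjpow : ∀ j : ℕ, (u : Module.End ℂ (Fin n → ℂ)) * P ^ j *
            (↑u⁻¹ : Module.End ℂ (Fin n → ℂ)) = P ^ (av g * j) := by
          intro j
          induction j with
          | zero => simp
          | succ j ih =>
            calc (u : Module.End ℂ (Fin n → ℂ)) * P ^ (j + 1) * (↑u⁻¹ : Module.End ℂ (Fin n → ℂ))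
                = ((u : Module.End ℂ (Fin n → ℂ)) * P ^ j * (↑u⁻¹ : Module.End ℂ (Fin n → ℂ))) *
                  ((u : Module.End ℂ (Fin n → ℂ)) * P * (↑u⁻¹ : Module.End ℂ (Fin n → ℂ))) := by
                  simp [pow_succ, mul_assoc]
              _ = _ := by rw [ih, hPu, ← pow_add, Nat.mul_succ]
        rw [Equiv.mulLeft₀_apply, hconjpow, hPa, Nat.cast_mul, ZMod.natCast_zmod_val, one_mul]
      have hd := hDeq (av g : ZMod r) hanz (Lw s)
      rw [hLwD] at hd
      refine Eq.trans ?_ hd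
      show LinearMap.det ((↑(u * (Lw s).1.2 * u⁻¹) : Module.End ℂ (Fin n → ℂ)) * E 1 + (1 - E 1)) =
        LinearMap.det (((Lw s).1.2 : Module.End ℂ (Fin n → ℂ)) * E (av g : ZMod r) +
          (1 - E (av g : ZMod r)))
      have hexp : (↑(u * (Lw s).1.2 * u⁻¹) : Module.End ℂ (Fin n → ℂ)) * E 1 + (1 - E 1) =
          (u : Module.End ℂ (Fin n → ℂ)) * (((Lw s).1.2 : Module.End ℂ (Fin n → ℂ)) *
            E (av g : ZMod r) + (1 - E (av g : ZMod r))) * (↑u⁻¹ : Module.End ℂ (Fin n → ℂ)) := by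
        rw [← hE']; simp [mul_add, add_mul, mul_sub, sub_mul, mul_assoc]
      rw [hexp, map_mul, map_mul, mul_right_comm, ← map_mul, Units.mul_inv, map_one, one_mul]
    have heq : Lw s' = ⟨_, hmemW⟩ := by
      have h : ∀ a : W, D a = 1 → D a⁻¹ = 1 := fun a ha => by
        rw [← mul_one (D a⁻¹), ← ha, ← map_mul, inv_mul_cancel, map_one, ha]
      refine mul_inv_eq_one.1 (hinj _ ?_ (by rw [map_mul, hLwD, h _ hDw, mul_one]))
      show (Lw s').1.1 * ((g : G) * (Lw s).1.1 * (g : G)⁻¹)⁻¹ = 1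
      rw [hLw1, hLw1, ← hss, mul_inv_cancel]
    show u * (Lw s).1.2 = (Lw s').1.2 * u
    rw [heq]; group
  obtain ⟨h, hh⟩ : ∃ h, h = orderOf (α g) := ⟨_, rfl⟩
  have hhpos : 0 < h := hh ▸ orderOf_pos _
  have hghm : (g : G) ^ h ∈ S₀ := by
    have := hαmem (g ^ h) (by rw [map_pow, hh, pow_orderOf_eq_one])
    simpa using this
  have hQpow : ∀ j : ℕ, Implements ρ ((g : G) ^ j) (Q₀ ^ j) := by
    intro j
    induction j with
    | zero => simpa using Implements.one ρ
    | succ j ih => rw [pow_succ, pow_succ]; exact ih.mul (hSN g.2) hQ₀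
  obtain ⟨cq, hcq⟩ := implements_unique (hSN hghm.1) (hL₀imp ⟨_, hghm⟩) (hQpow h) (Units.isUnit _)
  have hcq0 : cq ≠ 0 := by
    intro h0
    have hu := hQ₀u.pow h
    rw [hcq, h0, zero_smul] at hu
    haveI : Nontrivial (Fin n → ℂ) :=
      Module.nontrivial_of_finrank_pos (R := ℂ) (by rw [Module.finrank_fin_fun]; exact hnpos)
    exact not_isUnit_zero hu
  obtain ⟨cr, hcr⟩ := IsAlgClosed.exists_pow_nat_eq cq⁻¹ hhpos
  have hQh : (cr • Q₀) ^ h = ((L₀ ⟨_, hghm⟩ : (Module.End ℂ (Fin n → ℂ))ˣ) :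
      Module.End ℂ (Fin n → ℂ)) := by
    rw [smul_pow, hcr, hcq, smul_smul, inv_mul_cancel₀ hcq0, one_smul]
  have hQunit : IsUnit (cr • Q₀) := (isUnit_pow_iff hhpos.ne').1 (hQh ▸ Units.isUnit _)
  let Q := hQunit.unit
  have hQimp : Implements ρ (g : G) (Q : Module.End ℂ (Fin n → ℂ)) := by
    rw [IsUnit.unit_spec]; exact hQ₀.smul cr
  have hQh' : Q ^ h = L₀ ⟨_, hghm⟩ := Units.ext (by
    rw [Units.val_pow_eq_pow_val, IsUnit.unit_spec, hQh])
  have hhd : ∀ j : ℤ, (g : G) ^ j ∈ S₀ → (h : ℤ) ∣ j := by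
    intro j hj
    rw [hh, orderOf_dvd_iff_zpow_eq_one, ← map_zpow]
    refine Units.ext ?_
    show ((av (g ^ j) : ℕ) : ZMod r) = 1
    rw [← Nat.cast_one]
    refine hauniq _ _ fun f hf => ?_
    rw [← hav (g ^ j) f hf, pow_one, SubgroupClass.coe_zpow]
    exact hj.2 f hf
  have hQord : Q ^ orderOf (g : G) = 1 := by
    obtain ⟨c, hc⟩ : (h : ℕ) ∣ orderOf (g : G) := by
      refine Int.natCast_dvd_natCast.1 (hhd _ ?_)
      rw [zpow_natCast, pow_orderOf_eq_one]; exact one_mem _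
    rw [hc, pow_mul, hQh', ← map_pow]
    have : (⟨_, hghm⟩ : S₀) ^ c = 1 := Subtype.ext (by
      show ((g : G) ^ h) ^ c = 1
      rw [← pow_mul, ← hc, pow_orderOf_eq_one])
    rw [this, map_one]
  obtain ⟨Lg, hLg⟩ := cyclic_hom (g : G) Q hQord
  have hgn : g.1 ∈ normalizer (S₀ : Set G) := by
    exact Subgroup.mem_normalizer_fintype fun x hx => hgnorm x hx
  obtain ⟨LS, hLS1, hLS2⟩ := glue (zpowers_le.2 hgn) L₀ Lg
    (by
      intro b a a' hab
      obtain ⟨j, hj⟩ := mem_zpowers_iff.1 b.2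
      rw [hLg j b hj.symm]
      rw [← hj] at hab
      clear hj b
      induction j using Int.induction_on generalizing a a' with
      | zero => rw [show a' = a from Subtype.ext (by simpa using hab)]; simp
      | succ i ih =>
        have hm1 : (g : G) * (a : G) * (g : G)⁻¹ ∈ S₀ := hgnorm _ a.2
        rw [zpow_add_one, mul_assoc, hinvar Q hQimp a ⟨_, hm1⟩ rfl, ← mul_assoc,
          ih ⟨_, hm1⟩ a' (by rw [hab, zpow_add_one]; group), mul_assoc]
      | pred i ih =>
        have hm1 : (g : G)⁻¹ * (a : G) * (g : G) ∈ S₀ := by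
          have := (mem_normalizer_iff.1 (inv_mem hgn) a).1 a.2
          rwa [inv_inv] at this
        have h1 : Q⁻¹ * L₀ a = L₀ ⟨_, hm1⟩ * Q⁻¹ := by
          rw [inv_mul_eq_iff_eq_mul, ← mul_assoc, hinvar Q hQimp ⟨_, hm1⟩ a (by simp only; group),
            mul_inv_cancel_right]
        rw [zpow_sub_one, mul_assoc, h1, ← mul_assoc,
          ih ⟨_, hm1⟩ a' (by rw [hab, zpow_sub_one]; group), mul_assoc])
    (by
      intro a b hab
      obtain ⟨j, hj⟩ := mem_zpowers_iff.1 b.2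
      rw [hLg j b hj.symm]
      rw [← hj] at hab
      obtain ⟨c, hc⟩ := hhd j (hab ▸ a.2)
      have hQz : Q ^ j = L₀ ⟨_, hghm⟩ ^ c := by rw [hc, zpow_mul, zpow_natCast, hQh']
      rw [hQz, ← map_zpow]
      congr 1
      refine Subtype.ext ?_
      show (a : G) = (((g : G) ^ h) ^ c)
      rw [hab, hc, zpow_mul, zpow_natCast])
  let L : S →* (Module.End ℂ (Fin n → ℂ))ˣ :=
    LS.comp (Subgroup.inclusion (le_of_eq hdec.symm))
  refine hasLift_of_irreducible hF ρ hz ((Units.coeHom _).comp L) fun s => ?_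
  show Implements ρ (s : G) ((L s : (Module.End ℂ (Fin n → ℂ))ˣ) : Module.End ℂ (Fin n → ℂ))
  obtain ⟨j, hj⟩ := mem_zpowers_iff.1 (hgen ⟨α s, s, rfl⟩)
  have hj' : α g ^ j = α s := congrArg Subtype.val hj
  have hs0 := hαmem (s * g ^ (-j)) (by rw [map_mul, map_zpow, ← hj', zpow_neg, mul_inv_cancel])
  obtain ⟨j', hj1⟩ : ∃ j' : ℕ, (g : G) ^ j' = (g : G) ^ j :=
    ⟨(j % orderOf (g : G)).toNat, by
      rw [← zpow_natCast, Int.toNat_of_nonneg (Int.emod_nonneg _ (by
        exact_mod_cast (orderOf_pos (g : G)).ne')), zpow_mod_orderOf]⟩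
  have hx : Subgroup.inclusion (le_of_eq hdec.symm) s =
      ⟨_, mem_sup_left hs0⟩ * ⟨(g : G) ^ j', mem_sup_right (pow_mem (mem_zpowers _) j')⟩ :=
    Subtype.ext (by simp [hj1])
  show Implements ρ (s : G) ((LS (Subgroup.inclusion (le_of_eq hdec.symm) s) :
    (Module.End ℂ (Fin n → ℂ))ˣ) : Module.End ℂ (Fin n → ℂ))
  rw [hx, map_mul, hLS1 ⟨_, hs0⟩ _ rfl, hLS2 ⟨_, pow_mem (mem_zpowers _) j'⟩ _ rfl,
    hLg j' _ (by simp), zpow_natCast, Units.val_mul, Units.val_pow_eq_pow_val]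
  have hQj : Implements ρ ((g : G) ^ j') ((Q : Module.End ℂ (Fin n → ℂ)) ^ j') := by
    rw [IsUnit.unit_spec, smul_pow]; exact (hQpow j').smul _
  intro f f' hff
  exact (hL₀imp ⟨_, hs0⟩).mul (pow_mem (hSN g.2) j') hQj f f' (hff.trans (by simp [hj1]))

end CfsgLib.ExtraExt
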