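import Cfsg.Agent.Lib.Char.Equiv
import Cfsg.Agent.Lib.Char.Integral
import Cfsg.Agent.Lib.Char.Complete
import Mathlib.RingTheory.Adjoin.Basic
import Mathlib.GroupTheory.Commutator.Basic

/-!
Faithful irreducible representations of groups with centre `{1, z}` and commutators in it.
-/

set_option autoImplicit false
set_option linter.style.haveILetI false

open Module Subgroup
open scoped commutatorElement

namespace CfsgLib.ExtraExt

universe u

variable {G : Type u} [Group G]

/-- `F` is a `2`-group with centre `{1, z}` and commutators in it. -/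
structure Nice (z : G) (F : Subgroup G) : Prop where
  zc : z ∈ center G
  z1 : z ≠ 1
  zz : z * z = 1
  zF : z ∈ F
  pgrp : IsPGroup 2 F
  comm : ∀ x ∈ F, ∀ y ∈ F, ⁅x, y⁆ = 1 ∨ ⁅x, y⁆ = z
  ctr : ∀ x ∈ F, (∀ y ∈ F, x * y = y * x) → x = 1 ∨ x = z

/-- `X` implements conjugation by `s`. -/
def Implements {F : Subgroup G} {n : ℕ} (ρ : Representation ℂ F (Fin n → ℂ)) (s : G)
    (X : Module.End ℂ (Fin n → ℂ)) : Prop :=
  ∀ f f' : F, (f' : G) = s * f * s⁻¹ → X * ρ f = ρ f' * X

/-- Every representation with `z ↦ -1` carries a compatible action of `S`. -/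
def HasLift (z : G) (F S : Subgroup G) : Prop :=
  ∀ (n : ℕ) (ρ : Representation ℂ F (Fin n → ℂ)),
    (∀ w : F, (w : G) = z → ρ w = -1) →
    ∃ L : S →* Module.End ℂ (Fin n → ℂ),
      ∀ s : S, Implements ρ (s : G) (L s) ∧ L s ∈ Algebra.adjoin ℂ (Set.range ρ)

theorem Implements.mul {F : Subgroup G} {n : ℕ} {ρ : Representation ℂ F (Fin n → ℂ)} {s t : G}
    {X Y : Module.End ℂ (Fin n → ℂ)} (ht : t ∈ normalizer (F : Set G)) (hX : Implements ρ s X)
    (hY : Implements ρ t Y) : Implements ρ (s * t) (X * Y) := by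
  intro f f' h
  have hm : t * (f : G) * t⁻¹ ∈ F := (mem_normalizer_iff.1 ht f).1 f.2
  rw [mul_assoc, hY f ⟨_, hm⟩ rfl, ← mul_assoc, hX ⟨_, hm⟩ f' (by rw [h]; simp only; group),
    mul_assoc]

theorem Implements.one {F : Subgroup G} {n : ℕ} (ρ : Representation ℂ F (Fin n → ℂ)) :
    Implements ρ 1 1 := by
  intro f f' h
  rw [show f' = f from Subtype.ext (by simpa using h), one_mul, mul_one]

theorem Implements.smul {F : Subgroup G} {n : ℕ} {ρ : Representation ℂ F (Fin n → ℂ)} {s : G}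
    {X : Module.End ℂ (Fin n → ℂ)} (hX : Implements ρ s X) (c : ℂ) :
    Implements ρ s (c • X) := by
  intro f f' h
  rw [smul_mul_assoc, hX f f' h, mul_smul_comm]

variable {z : G} {F : Subgroup G}

/-- The element `z` of `F`. -/
def Nice.zel (hF : Nice z F) : F := ⟨z, hF.zF⟩

theorem Nice.cases_center (hF : Nice z F) {f : F} (hf : ∀ g : F, f * g = g * f) :
    f = 1 ∨ f = hF.zel := by
  rcases hF.ctr f f.2 (fun y hy => congrArg Subtype.val (hf ⟨y, hy⟩)) with h | h
  · exact Or.inl (Subtype.ext h)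
  · exact Or.inr (Subtype.ext h)

variable {n : ℕ} {ρ : Representation ℂ F (Fin n → ℂ)}

theorem Nice.char_zero (hF : Nice z F) (hz : ρ hF.zel = -1) {f : F} (h1 : f ≠ 1)
    (h2 : f ≠ hF.zel) : ρ.character f = 0 := by
  obtain ⟨g, hg⟩ : ∃ g : F, g * f ≠ f * g := by
    by_contra h
    push Not at h
    exact (hF.cases_center fun g => (h g).symm).elim h1 h2
  have hc : g * f * g⁻¹ = hF.zel * f := by
    apply Subtype.ext
    rcases hF.comm g g.2 f f.2 with h | h
    · exact absurd (Subtype.ext (commutatorElement_eq_one_iff_mul_comm.1 h)) hg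
    · show (g : G) * f * (g : G)⁻¹ = z * f
      rw [← h, commutatorElement_def]
      group
  have h3 := ρ.char_conj f g
  rw [hc] at h3
  have h4 : ρ.character (hF.zel * f) = - ρ.character f := by
    rw [Representation.character, show ρ (hF.zel * f) = - ρ f from LinearMap.ext fun v => by
      rw [map_mul, hz]; rfl, map_neg]
    rfl
  rw [h4] at h3
  linear_combination -(1 / 2 : ℂ) * h3

theorem Nice.char_zel (hF : Nice z F) (hz : ρ hF.zel = -1) :
    ρ.character hF.zel = -(n : ℂ) := by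
  rw [Representation.character, hz, map_neg, LinearMap.trace_one, Module.finrank_fin_fun]

theorem Nice.char_one' : ρ.character 1 = (n : ℂ) := by
  simp

theorem Nice.zel_ne (hF : Nice z F) : hF.zel ≠ 1 := fun h => hF.z1 (congrArg Subtype.val h)

variable [Finite G]

theorem Nice.card_eq (hF : Nice z F) [ρ.IsIrreducible] (hz : ρ hF.zel = -1) :
    Nat.card F = 2 * (n * n) := by
  classical
  haveI : Fintype F := Fintype.ofFinite F
  have h := Char.classInner_irr_self (Char.isIrrCharacter_character ρ)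
  unfold Cfsg.classInner at h
  rw [← Finset.sum_subset (Finset.subset_univ {1, hF.zel}) (fun f _ hf => by
    rw [Finset.mem_insert, Finset.mem_singleton, not_or] at hf
    rw [hF.char_zero hz hf.1 hf.2, zero_mul]), Finset.sum_pair hF.zel_ne.symm,
    hF.char_zel hz, Representation.char_one, Module.finrank_fin_fun] at h
  simp only [map_neg, map_natCast] at h
  rw [inv_mul_eq_one₀ (Nat.cast_ne_zero.mpr Nat.card_pos.ne')] at h
  have h' : ((Nat.card F : ℕ) : ℂ) = ((2 * (n * n) : ℕ) : ℂ) := by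
    rw [h]; push_cast; ring
  exact_mod_cast h'

omit [Finite G] in
theorem average_eq [Fintype F] [ρ.IsIrreducible] (A : Module.End ℂ (Fin n → ℂ)) :
    ∑ f : F, ρ f * A * ρ f⁻¹ =
      ((Fintype.card F : ℂ) * LinearMap.trace ℂ _ A / n) • (1 : Module.End ℂ (Fin n → ℂ)) := by
  set T := ∑ f : F, ρ f * A * ρ f⁻¹ with hT
  have hcomm : ∀ g, T * ρ g = ρ g * T := by
    intro g
    rw [hT, Finset.sum_mul, Finset.mul_sum]
    refine Fintype.sum_equiv (Equiv.mulLeft g⁻¹) _ _ fun f => ?_
    simp only [Equiv.coe_mulLeft, mul_inv_rev, inv_inv, map_mul]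
    simp only [mul_assoc]
    rw [← mul_assoc (ρ g), show ρ g * ρ g⁻¹ = 1 by rw [← map_mul, mul_inv_cancel, map_one], one_mul]
  obtain ⟨c, hc⟩ := Char.exists_scalar_of_commute ρ T hcomm
  have hn : (n : ℂ) ≠ 0 := by
    have := Char.finrank_pos_of_irreducible ρ
    rw [Module.finrank_fin_fun] at this
    exact Nat.cast_ne_zero.2 this.ne'
  have htr := congrArg (LinearMap.trace ℂ (Fin n → ℂ)) hc
  rw [map_smul, LinearMap.trace_one, Module.finrank_fin_fun, smul_eq_mul, hT, map_sum] at htr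
  have : ∀ f : F, LinearMap.trace ℂ (Fin n → ℂ) (ρ f * A * ρ f⁻¹) = LinearMap.trace ℂ _ A := by
    intro f
    rw [LinearMap.trace_mul_comm, ← mul_assoc, ← map_mul, inv_mul_cancel, map_one, one_mul]
  rw [Finset.sum_congr rfl fun f _ => this f, Finset.sum_const, Finset.card_univ,
    nsmul_eq_mul] at htr
  rw [hc, htr, mul_div_assoc, div_self hn, mul_one]

omit [Finite G] in
/-- The inversion formula on the algebra of an irreducible representation. -/
theorem fourier [Fintype F] [ρ.IsIrreducible] (X : Module.End ℂ (Fin n → ℂ)) :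
    ∑ f : F, LinearMap.trace ℂ _ (X * ρ f⁻¹) • ρ f =
      ((Fintype.card F : ℂ) / n) • X := by
  classical
  refine LinearMap.ext fun v => ?_
  let b := Pi.basisFun ℂ (Fin n)
  have hA : ∀ i : Fin n, ∑ f : F, ((b.coord i).comp X) (ρ f⁻¹ (b i)) • ρ f v =
      ((Fintype.card F : ℂ) / n * (b.coord i) (X v)) • b i := by
    intro i
    have h := congrArg (fun T : Module.End ℂ (Fin n → ℂ) => T (b i))
      (average_eq (ρ := ρ) (((b.coord i).comp X).smulRight v))
    simp only [LinearMap.coe_sum, Finset.sum_apply, Module.End.mul_apply,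
      LinearMap.smulRight_apply, map_smul, LinearMap.smul_apply, Module.End.one_apply] at h
    rw [h, LinearMap.trace_smulRight, LinearMap.comp_apply]
    congr 1
    ring
  calc (∑ f : F, LinearMap.trace ℂ _ (X * ρ f⁻¹) • ρ f) v
      = ∑ f : F, ∑ i : Fin n, ((b.coord i).comp X) (ρ f⁻¹ (b i)) • ρ f v := by
        rw [LinearMap.coe_sum, Finset.sum_apply]
        refine Finset.sum_congr rfl fun f _ => ?_
        rw [LinearMap.smul_apply, ← Finset.sum_smul, LinearMap.trace_eq_matrix_trace ℂ b]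
        simp [Matrix.trace, Matrix.diag, b]
    _ = ∑ i : Fin n, ((Fintype.card F : ℂ) / n * (b.coord i) (X v)) • b i := by
        rw [Finset.sum_comm]
        exact Finset.sum_congr rfl fun i _ => hA i
    _ = (((Fintype.card F : ℂ) / n) • X) v := by
        rw [LinearMap.smul_apply]
        conv_rhs => rw [← b.sum_repr (X v), Finset.smul_sum]
        exact Finset.sum_congr rfl fun i _ => by rw [smul_smul]; rfl

omit [Finite G] in
theorem exists_irreducible (hF : Nice z F) [Finite F] :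
    ∃ (m : ℕ) (ρ₀ : Representation ℂ F (Fin m → ℂ)), ρ₀.IsIrreducible ∧ ρ₀ hF.zel = -1 := by
  classical
  cases nonempty_fintype F
  obtain ⟨χ, hχ⟩ : ∃ χ : Cfsg.IrrCharacter F, (χ : F → ℂ) hF.zel ≠ (χ : F → ℂ) 1 := by
    by_contra h
    push Not at h
    have h1 := Char.sum_apply_one_mul (G := F) hF.zel
    rw [if_neg hF.zel_ne] at h1
    have h2 := Char.sum_apply_one_sq (G := F)
    simp only [h, ← sq] at h1
    rw [h2] at h1
    exact Nat.cast_ne_zero.2 (Nat.card_pos (α := F)).ne' h1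
  obtain ⟨m, ρ₀, hρ, hc⟩ := χ.2
  refine ⟨m, ρ₀, hρ, ?_⟩
  haveI := hρ
  have hcz : ∀ g, ρ₀ hF.zel * ρ₀ g = ρ₀ g * ρ₀ hF.zel := fun g => by
    rw [← map_mul, ← map_mul]
    exact congrArg ρ₀ (Subtype.ext (Subgroup.mem_center_iff.1 hF.zc g).symm)
  obtain ⟨c, hc'⟩ := Char.exists_scalar_of_commute ρ₀ (ρ₀ hF.zel) hcz
  haveI : Nontrivial (Fin m → ℂ) :=
    Module.nontrivial_of_finrank_pos (Char.finrank_pos_of_irreducible ρ₀)
  have hsq : c * c = 1 := by
    have h1 : ρ₀ hF.zel * ρ₀ hF.zel = 1 := by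
      rw [← map_mul, show hF.zel * hF.zel = 1 from Subtype.ext hF.zz, map_one]
    rw [hc', smul_mul_smul_comm, mul_one] at h1
    exact smul_left_injective ℂ (one_ne_zero (α := Module.End ℂ (Fin m → ℂ)))
      (h1.trans (one_smul ℂ _).symm : (c * c) • (1 : Module.End ℂ (Fin m → ℂ)) = (1 : ℂ) • 1)
  rcases mul_self_eq_one_iff.1 hsq with h | h
  · exfalso
    apply hχ
    rw [← hc]
    show LinearMap.trace ℂ _ (ρ₀ hF.zel) = LinearMap.trace ℂ _ (ρ₀ 1)
    rw [hc', h, one_smul, map_one ρ₀]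
  · rw [hc', h]
    exact LinearMap.ext fun v => by simp

/-- A lift for one irreducible representation gives lifts for all. -/
theorem hasLift_of_irreducible (hF : Nice z F) {S : Subgroup G} {m : ℕ}
    (ρ₀ : Representation ℂ F (Fin m → ℂ)) [ρ₀.IsIrreducible] (hz₀ : ρ₀ hF.zel = -1)
    (L₀ : S →* Module.End ℂ (Fin m → ℂ)) (hL : ∀ s : S, Implements ρ₀ (s : G) (L₀ s)) :
    HasLift z F S := by
  classical
  intro n ρ hρ
  haveI : Fintype F := Fintype.ofFinite F
  have hm : (m : ℂ) ≠ 0 := by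
    have := Char.finrank_pos_of_irreducible ρ₀
    rw [Module.finrank_fin_fun] at this
    exact Nat.cast_ne_zero.2 this.ne'
  have hcard : (Fintype.card F : ℂ) = 2 * ((m : ℂ) * m) := by
    rw [← Nat.card_eq_fintype_card, hF.card_eq hz₀]; push_cast; ring
  have hFne : (Fintype.card F : ℂ) ≠ 0 := Nat.cast_ne_zero.2 Fintype.card_ne_zero
  let Φ : Module.End ℂ (Fin m → ℂ) →ₗ[ℂ] Module.End ℂ (Fin n → ℂ) :=
    { toFun := fun X => ((m : ℂ) / Fintype.card F) •
        ∑ f : F, LinearMap.trace ℂ _ (X * ρ₀ f⁻¹) • ρ f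
      map_add' := fun X Y => by
        simp only [add_mul, map_add, add_smul, Finset.sum_add_distrib, smul_add]
      map_smul' := fun c X => by
        simp only [smul_mul_assoc, map_smul, smul_eq_mul, mul_smul, RingHom.id_apply]
        rw [← Finset.smul_sum, smul_comm] }
  have hΦρ : ∀ g : F, Φ (ρ₀ g) = ρ g := by
    intro g
    show ((m : ℂ) / Fintype.card F) •
      ∑ f : F, LinearMap.trace ℂ _ (ρ₀ g * ρ₀ f⁻¹) • ρ f = ρ g
    have hsum : ∑ f : F, LinearMap.trace ℂ _ (ρ₀ g * ρ₀ f⁻¹) • ρ f = (2 * (m : ℂ)) • ρ g := by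
      rw [← Finset.sum_subset (Finset.subset_univ {g, hF.zel * g}) (fun f _ hf => by
        rw [Finset.mem_insert, Finset.mem_singleton, not_or] at hf
        rw [← map_mul, show LinearMap.trace ℂ _ (ρ₀ (g * f⁻¹)) = ρ₀.character (g * f⁻¹) from rfl,
          hF.char_zero hz₀ (fun h => hf.1 (mul_inv_eq_one.1 h).symm) (fun h => hf.2 ?_),
          zero_smul]
        have hzz : hF.zel * hF.zel = 1 := Subtype.ext hF.zz
        rw [← h, mul_assoc]
        have : hF.zel * g = g * hF.zel :=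
          Subtype.ext (Subgroup.mem_center_iff.1 hF.zc g).symm
        rw [← inv_inv f] at *
        calc f⁻¹⁻¹ = (hF.zel * hF.zel) * f⁻¹⁻¹ := by rw [hzz, one_mul]
          _ = _ := by rw [← h]; group),
        Finset.sum_pair (fun h => hF.zel_ne (mul_eq_right.1 h.symm)), ← map_mul, ← map_mul]
      have e1 : g * g⁻¹ = 1 := mul_inv_cancel g
      have e2 : g * (hF.zel * g)⁻¹ = hF.zel := by
        rw [mul_inv_rev, mul_inv_cancel_left]
        exact inv_eq_of_mul_eq_one_right (Subtype.ext hF.zz)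
      rw [e1, e2, hz₀, map_one, show ρ (hF.zel * g) = - ρ g from LinearMap.ext fun v => by
          rw [map_mul, hρ hF.zel rfl]; rfl, map_neg, LinearMap.trace_one,
        Module.finrank_fin_fun, smul_neg, neg_smul, neg_neg, ← add_smul, two_mul]
    rw [hsum, smul_smul]
    have : (m : ℂ) / Fintype.card F * (2 * m) = 1 := by
      rw [hcard]; field_simp
    rw [this, one_smul]
  have hexp : ∀ X : Module.End ℂ (Fin m → ℂ),
      X = ∑ f : F, ((m : ℂ) / Fintype.card F * LinearMap.trace ℂ _ (X * ρ₀ f⁻¹)) • ρ₀ f := by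
    intro X
    simp only [mul_smul, ← Finset.smul_sum]
    rw [fourier X, smul_smul]
    rw [div_mul_div_comm, mul_comm (m : ℂ), div_self (mul_ne_zero hFne hm), one_smul]
  have hmul : ∀ X Y, Φ (X * Y) = Φ X * Φ Y := by
    intro X Y
    conv_lhs => rw [hexp X, hexp Y]
    conv_rhs => rw [hexp X, hexp Y]
    simp only [Finset.sum_mul_sum, map_sum, map_smul, smul_mul_smul_comm, ← map_mul, hΦρ]
  have hone : Φ 1 = 1 := by rw [← map_one ρ₀, hΦρ, map_one]
  refine ⟨{ toFun := fun s => Φ (L₀ s)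
            map_one' := by rw [map_one, hone]
            map_mul' := fun s t => by rw [map_mul, hmul] }, fun s => ⟨?_, ?_⟩⟩
  · intro f f' h
    show Φ (L₀ s) * ρ f = ρ f' * Φ (L₀ s)
    rw [← hΦρ f, ← hΦρ f', ← hmul, ← hmul, hL s f f' h]
  · show ((m : ℂ) / Fintype.card F) • ∑ f : F,
      LinearMap.trace ℂ _ (L₀ s * ρ₀ f⁻¹) • ρ f ∈ _
    exact (Algebra.adjoin ℂ (Set.range ρ)).smul_mem ((Algebra.adjoin ℂ (Set.range ρ)).sum_mem
      fun f _ => (Algebra.adjoin ℂ (Set.range ρ)).smul_mem (Algebra.subset_adjoin ⟨f, rfl⟩) _) _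

/-- Implementers are unique up to scalars. -/
theorem implements_unique [ρ.IsIrreducible] {s : G} {X Y : Module.End ℂ (Fin n → ℂ)}
    (hs : s ∈ normalizer (F : Set G)) (hX : Implements ρ s X) (hY : Implements ρ s Y)
    (hXu : IsUnit X) : ∃ c : ℂ, Y = c • X := by
  obtain ⟨u, rfl⟩ := hXu
  have h : ∀ f, ((↑u⁻¹ : Module.End ℂ (Fin n → ℂ)) * Y) * ρ f = ρ f * ((↑u⁻¹ : Module.End ℂ (Fin n → ℂ)) * Y) := by
    intro f
    have hm : s * (f : G) * s⁻¹ ∈ F := (mem_normalizer_iff.1 hs f).1 f.2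
    rw [mul_assoc, hY f ⟨_, hm⟩ rfl, ← mul_assoc, ← mul_assoc]
    congr 1
    have h2 := hX f ⟨_, hm⟩ rfl
    calc (↑u⁻¹ : Module.End ℂ (Fin n → ℂ)) * ρ ⟨_, hm⟩
        = ↑u⁻¹ * (ρ ⟨_, hm⟩ * ↑u) * ↑u⁻¹ := by simp [mul_assoc]
      _ = _ := by rw [← h2]; simp
  obtain ⟨c, hc⟩ := Char.exists_scalar_of_commute ρ _ h
  refine ⟨c, ?_⟩
  rw [Units.inv_mul_eq_iff_eq_mul] at hc
  rw [hc, mul_smul_comm, mul_one]

/-- Every normalising element has an invertible implementer. -/
theorem exists_implements (hF : Nice z F) (hz : ρ hF.zel = -1) {s : G}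
    (hs : s ∈ normalizer (F : Set G)) :
    ∃ X : Module.End ℂ (Fin n → ℂ), IsUnit X ∧ Implements ρ s X := by
  let c : F →* F :=
    { toFun := fun f => ⟨s * f * s⁻¹, (mem_normalizer_iff.1 hs f).1 f.2⟩
      map_one' := Subtype.ext (by simp)
      map_mul' := fun a b => Subtype.ext (by simp) }
  let σ : Representation ℂ F (Fin n → ℂ) := ρ.comp c
  have hchar : ρ.character = σ.character := by
    funext f
    show ρ.character f = ρ.character (c f)
    by_cases h1 : f = 1
    · rw [h1, map_one]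
    have hcz : c hF.zel = hF.zel := Subtype.ext (by
      show s * z * s⁻¹ = z
      rw [Subgroup.mem_center_iff.1 hF.zc s, mul_inv_cancel_right])
    by_cases h2 : f = hF.zel
    · rw [h2, hcz]
    have hinj : Function.Injective c := fun a b h => Subtype.ext (by
      simpa [c] using congrArg Subtype.val h)
    rw [hF.char_zero hz h1 h2, hF.char_zero hz (fun h => h1 (hinj (h.trans (map_one c).symm)))
      (fun h => h2 (hinj (h.trans hcz.symm)))]
  obtain ⟨e⟩ := Char.nonempty_equiv_of_character_eq ρ σ hchar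
  refine ⟨((LinearMap.GeneralLinearGroup.generalLinearEquiv ℂ (Fin n → ℂ)).symm e.toLinearEquiv :
    (Module.End ℂ (Fin n → ℂ))ˣ), Units.isUnit _, fun f f' h => ?_⟩
  rw [show f' = c f from Subtype.ext h]
  exact LinearMap.ext fun v => e.toIntertwiningMap.isIntertwining _ _ f v

end CfsgLib.ExtraExt
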