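import Cfsg.Agent.Lib.ExtraExt.Decomp
import Cfsg.Agent.Lib.ExtraExt.Glue
import Mathlib.FieldTheory.IsAlgClosed.Basic
import Mathlib.Analysis.Complex.Polynomial.Basic

/-!
Lifts for central products and for a pair of factors exchanged by an element.
-/

set_option autoImplicit false
set_option linter.style.haveILetI false
set_option linter.unusedSectionVars false
set_option maxHeartbeats 1600000

open Module Subgroup

namespace CfsgLib.ExtraExt

universe u

variable {G : Type u} [Group G] {z : G} {F : Subgroup G} {n : ℕ}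

/-- The restriction of a representation. -/
def res (ρ : Representation ℂ F (Fin n → ℂ)) {C : Subgroup G} (h : C ≤ F) :
    Representation ℂ C (Fin n → ℂ) := ρ.comp (Subgroup.inclusion h)

theorem res_apply (ρ : Representation ℂ F (Fin n → ℂ)) {C : Subgroup G} (h : C ≤ F) (c : C) :
    res ρ h c = ρ ⟨c, h c.2⟩ := rfl

theorem commute_adjoin {ρ : Representation ℂ F (Fin n → ℂ)} {C D : Subgroup G} (hC : C ≤ F)
    (hD : D ≤ F) (hCD : ∀ c ∈ C, ∀ d ∈ D, Commute c d) {X Y : Module.End ℂ (Fin n → ℂ)}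
    (hX : X ∈ Algebra.adjoin ℂ (Set.range (res ρ hC)))
    (hY : Y ∈ Algebra.adjoin ℂ (Set.range (res ρ hD))) : Commute X Y := by
  refine Algebra.adjoin_induction (p := fun X _ => Commute X Y) ?_ ?_ ?_ ?_ hX
  · rintro _ ⟨c, rfl⟩
    refine Algebra.adjoin_induction (p := fun Y _ => Commute (res ρ hC c) Y) ?_ ?_ ?_ ?_ hY
    · rintro _ ⟨d, rfl⟩
      rw [res_apply, res_apply]
      show _ * _ = _ * _
      rw [← map_mul, ← map_mul]
      exact congrArg ρ (Subtype.ext (hCD c c.2 d d.2).eq)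
    · exact fun r => Algebra.commute_algebraMap_right r _
    · exact fun _ _ _ _ h1 h2 => h1.add_right h2
    · exact fun _ _ _ _ h1 h2 => h1.mul_right h2
  · exact fun r => Algebra.commute_algebraMap_left r _
  · exact fun _ _ _ _ h1 h2 => h1.add_left h2
  · exact fun _ _ _ _ h1 h2 => h1.mul_left h2

theorem commute_rho {ρ : Representation ℂ F (Fin n → ℂ)} {C D : Subgroup G} (hC : C ≤ F)
    (hD : D ≤ F) (hCD : ∀ c ∈ C, ∀ d ∈ D, Commute c d) {X : Module.End ℂ (Fin n → ℂ)}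
    (hX : X ∈ Algebra.adjoin ℂ (Set.range (res ρ hC))) {d : G} (hd : d ∈ D) :
    Commute X (ρ ⟨d, hD hd⟩) :=
  commute_adjoin hC hD hCD hX (Algebra.subset_adjoin ⟨⟨d, hd⟩, rfl⟩)

/-- Implementers on two commuting generating factors multiply. -/
theorem combine {ρ : Representation ℂ F (Fin n → ℂ)} {C D : Subgroup G} (hC : C ≤ F)
    (hD : D ≤ F) (hCD : ∀ c ∈ C, ∀ d ∈ D, Commute c d) (hsup : C ⊔ D = F) {s : G}
    (hsC : s ∈ normalizer (C : Set G)) (hsD : s ∈ normalizer (D : Set G))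
    {X Y : Module.End ℂ (Fin n → ℂ)} (hXi : Implements (res ρ hC) s X)
    (hXa : X ∈ Algebra.adjoin ℂ (Set.range (res ρ hC))) (hYi : Implements (res ρ hD) s Y)
    (hYa : Y ∈ Algebra.adjoin ℂ (Set.range (res ρ hD))) :
    Implements ρ s (X * Y) ∧ X * Y ∈ Algebra.adjoin ℂ (Set.range ρ) := by
  refine ⟨?_, (Algebra.adjoin ℂ (Set.range ρ)).mul_mem
    (Algebra.adjoin_mono (by rintro _ ⟨c, rfl⟩; exact ⟨_, rfl⟩) hXa)
    (Algebra.adjoin_mono (by rintro _ ⟨c, rfl⟩; exact ⟨_, rfl⟩) hYa)⟩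
  intro f f' hff
  have hDC : D ≤ normalizer (C : Set G) := by
    intro d hd
    refine mem_normalizer_of_cj_eq ?_
    ext c
    rw [mem_cj]
    constructor
    · intro h
      have h1 := (hCD _ h d hd).eq
      have h2 : c = d⁻¹ * c * d := by
        calc c = d * (d⁻¹ * c * d) * d⁻¹ := by group
          _ = d⁻¹ * c * d := by rw [← h1, mul_inv_cancel_right]
      exact h2.symm ▸ h
    · intro h
      rwa [mul_assoc, (hCD c h d hd).eq, inv_mul_cancel_left]
  obtain ⟨c, hc, d, hd, hfd⟩ := (Solvable.mem_sup_of_le_normalizer hDC).1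
    (show (f : G) ∈ C ⊔ D by rw [hsup]; exact f.2)
  have hc' : s * c * s⁻¹ ∈ C := (mem_normalizer_iff.1 hsC c).1 hc
  have hd' : s * d * s⁻¹ ∈ D := (mem_normalizer_iff.1 hsD d).1 hd
  have e1 : ρ f = ρ ⟨c, hC hc⟩ * ρ ⟨d, hD hd⟩ := by
    rw [← map_mul]; exact congrArg ρ (Subtype.ext hfd.symm)
  have e2 : ρ f' = ρ ⟨_, hC hc'⟩ * ρ ⟨_, hD hd'⟩ := by
    rw [← map_mul]; exact congrArg ρ (Subtype.ext (by
      show (f' : G) = (s * c * s⁻¹) * (s * d * s⁻¹)
      rw [hff, ← hfd]; group))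
  have hXc : X * ρ ⟨c, hC hc⟩ = ρ ⟨_, hC hc'⟩ * X := hXi ⟨c, hc⟩ ⟨_, hc'⟩ rfl
  have hYd : Y * ρ ⟨d, hD hd⟩ = ρ ⟨_, hD hd'⟩ * Y := hYi ⟨d, hd⟩ ⟨_, hd'⟩ rfl
  have hYc := commute_rho hD hC (fun d hd c hc => (hCD c hc d hd).symm) hYa hc
  have hXd := commute_rho hC hD hCD hXa hd'
  calc X * Y * ρ f = X * (Y * ρ ⟨c, hC hc⟩) * ρ ⟨d, hD hd⟩ := by rw [e1]; simp only [mul_assoc]
    _ = (X * ρ ⟨c, hC hc⟩) * (Y * ρ ⟨d, hD hd⟩) := by rw [hYc.eq]; simp only [mul_assoc]
    _ = ρ ⟨_, hC hc'⟩ * (X * ρ ⟨_, hD hd'⟩) * Y := by rw [hXc, hYd]; simp only [mul_assoc]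
    _ = ρ f' * (X * Y) := by rw [hXd.eq, e2]; simp only [mul_assoc]

variable [Finite G]

/-- The lift for a nice subgroup and its centraliser. -/
theorem split (hF : Nice z F) {W S : Subgroup G} (hW : Nice z W) (hWF : W ≤ F)
    (hSF : S ≤ normalizer (F : Set G)) (hSW : S ≤ normalizer (W : Set G))
    (h1 : HasLift z W S) (h2 : HasLift z (F ⊓ centralizer (W : Set G)) S) : HasLift z F S := by
  intro n ρ hρ
  set D := F ⊓ centralizer (W : Set G) with hDdef
  have hDF : D ≤ F := inf_le_left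
  obtain ⟨LW, hLW⟩ := h1 n (res ρ hWF) (fun w hw => hρ _ hw)
  obtain ⟨LD, hLD⟩ := h2 n (res ρ hDF) (fun w hw => hρ _ hw)
  have hCD : ∀ c ∈ W, ∀ d ∈ D, Commute c d := fun c hc d hd => (mem_inf.1 hd).2 c hc
  have hcomm : ∀ s t, Commute (LW s) (LD t) := fun s t =>
    commute_adjoin hWF hDF hCD (hLW s).2 (hLD t).2
  refine ⟨{ toFun := fun s => LW s * LD s
            map_one' := by rw [map_one, map_one, mul_one]
            map_mul' := fun s t => by
              rw [map_mul, map_mul, mul_assoc, ← mul_assoc (LW t), (hcomm t s).eq]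
              simp only [mul_assoc] }, fun s => ?_⟩
  exact combine hWF hDF hCD (sup_centralizer_eq hF hW hWF) (hSW s.2)
    (inf_centralizer_invariant (hSF s.2) (hSW s.2)) (hLW s).1 (hLW s).2 (hLD s).1 (hLD s).2

/-- The tensor-induced lift. -/
theorem induced (hF : Nice z F) {C T S : Subgroup G} (hC : C ≤ F) (hTS : T ≤ S)
    (hSF : S ≤ normalizer (F : Set G)) (hTC : T ≤ normalizer (C : Set G))
    (g : G) (hgS : g ∈ S) (hgT : g ∈ normalizer (T : Set G)) (hg2 : g * g ∈ T) (hg : g ∉ T)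
    (hdec : T ⊔ zpowers g = S)
    (hCD : ∀ c ∈ C, ∀ d ∈ cj g C, Commute c d) (hsup : C ⊔ cj g C = F)
    (hlift : HasLift z C T) : HasLift z F S := by
  obtain ⟨n, ρ, hρirr, hz⟩ := exists_irreducible hF
  haveI := hρirr
  obtain ⟨LA₀, hLA₀⟩ := hlift n (res ρ hC) (fun w hw => by
    rw [res_apply]
    exact (congrArg ρ (Subtype.ext hw)).trans hz)
  have hD : cj g C ≤ F := hsup ▸ le_sup_right
  have hgF := hSF hgS
  obtain ⟨Q₀, hQu, hQ₀⟩ := exists_implements hF hz hgF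
  let q := hQu.unit
  have hq : Implements ρ g (q : Module.End ℂ (Fin n → ℂ)) := by rw [IsUnit.unit_spec]; exact hQ₀
  let LA : T →* (Module.End ℂ (Fin n → ℂ))ˣ := LA₀.toHomUnits
  have hLA : ∀ t : T, Implements (res ρ hC) (t : G) (LA t : Module.End ℂ (Fin n → ℂ)) ∧
      (LA t : Module.End ℂ (Fin n → ℂ)) ∈ Algebra.adjoin ℂ (Set.range (res ρ hC)) := hLA₀
  let θ : T →* T :=
    { toFun := fun t => ⟨g⁻¹ * t * g, by
        have := (mem_normalizer_iff.1 (inv_mem hgT) t).1 t.2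
        rwa [inv_inv] at this⟩
      map_one' := Subtype.ext (by simp)
      map_mul' := fun a b => Subtype.ext (by simp [mul_assoc]) }
  let LB : T →* (Module.End ℂ (Fin n → ℂ))ˣ :=
    (MulAut.conj q).toMonoidHom.comp (LA.comp θ)
  have hLBval : ∀ t : T, (LB t : Module.End ℂ (Fin n → ℂ)) =
      (q : Module.End ℂ (Fin n → ℂ)) * (LA (θ t) : Module.End ℂ (Fin n → ℂ)) *
        (↑q⁻¹ : Module.End ℂ (Fin n → ℂ)) := fun t => by
    show ((q * LA (θ t) * q⁻¹ : (Module.End ℂ (Fin n → ℂ))ˣ) : Module.End ℂ (Fin n → ℂ)) = _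
    simp
  have hconj : ∀ c (hc : c ∈ C) (d : G) (hd : d ∈ cj g C), d = g * c * g⁻¹ →
      (q : Module.End ℂ (Fin n → ℂ)) * res ρ hC ⟨c, hc⟩ * (↑q⁻¹ : Module.End ℂ (Fin n → ℂ)) =
        res ρ hD ⟨d, hd⟩ := by
    intro c hc d hd hdc
    rw [res_apply, res_apply, hq ⟨c, hC hc⟩ ⟨d, hD hd⟩ hdc, mul_assoc, Units.mul_inv, mul_one]
  have hLB : ∀ t : T, Implements (res ρ hD) (t : G) (LB t : Module.End ℂ (Fin n → ℂ)) ∧
      (LB t : Module.End ℂ (Fin n → ℂ)) ∈ Algebra.adjoin ℂ (Set.range (res ρ hD)) := by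
    intro t
    constructor
    · intro d d' hdd
      have hc : g⁻¹ * d * g ∈ C := mem_cj.1 d.2
      have hc' : g⁻¹ * d' * g ∈ C := mem_cj.1 d'.2
      rw [← hconj _ hc d d.2 (by group), ← hconj _ hc' d' d'.2 (by group), hLBval]
      have h := (hLA (θ t)).1 ⟨_, hc⟩ ⟨_, hc'⟩ (by
        show g⁻¹ * d' * g = (g⁻¹ * t * g) * (g⁻¹ * d * g) * (g⁻¹ * t * g)⁻¹
        rw [hdd]; group)
      calc (q : Module.End ℂ (Fin n → ℂ)) * (LA (θ t) : Module.End ℂ (Fin n → ℂ)) * ↑q⁻¹ *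
            (q * res ρ hC ⟨_, hc⟩ * ↑q⁻¹)
          = q * ((LA (θ t) : Module.End ℂ (Fin n → ℂ)) * res ρ hC ⟨_, hc⟩) * ↑q⁻¹ := by
            simp [mul_assoc]
        _ = _ := by rw [h]; simp [mul_assoc]
    · rw [hLBval]
      refine Algebra.adjoin_induction (p := fun X _ =>
        (q : Module.End ℂ (Fin n → ℂ)) * X * (↑q⁻¹ : Module.End ℂ (Fin n → ℂ)) ∈
          Algebra.adjoin ℂ (Set.range (res ρ hD))) ?_ ?_ ?_ ?_ (hLA (θ t)).2
      · rintro _ ⟨c, rfl⟩
        rw [hconj c c.2 _ (mem_cj.2 (by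
          show g⁻¹ * (g * c * g⁻¹) * g ∈ C
          simp [mul_assoc])) rfl]
        exact Algebra.subset_adjoin ⟨_, rfl⟩
      · intro r
        rw [← Algebra.commutes, mul_assoc, Units.mul_inv, mul_one]
        exact Subalgebra.algebraMap_mem _ r
      · intro x y _ _ hx hy
        rw [mul_add, add_mul]; exact add_mem hx hy
      · intro x y _ _ hx hy
        have : (q : Module.End ℂ (Fin n → ℂ)) * (x * y) * ↑q⁻¹ =
            (q * x * ↑q⁻¹) * (q * y * ↑q⁻¹) := by simp [mul_assoc]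
        rw [this]; exact mul_mem hx hy
  have hcomm : ∀ s t : T, LA s * LB t = LB t * LA s := fun s t =>
    Units.ext (commute_adjoin hC hD hCD (hLA s).2 (hLB t).2).eq
  let L : T →* (Module.End ℂ (Fin n → ℂ))ˣ :=
    { toFun := fun t => LA t * LB t
      map_one' := by rw [map_one, map_one, mul_one]
      map_mul' := fun s t => by
        rw [map_mul, map_mul, mul_assoc, ← mul_assoc (LA t), hcomm t s]
        simp only [mul_assoc] }
  have hTD : T ≤ normalizer ((cj g C : Subgroup G) : Set G) := by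
    intro t ht
    refine mem_normalizer_of_cj_eq ?_
    have h1 := cj_eq_self (hTC (θ ⟨t, ht⟩).2)
    rw [cj_cj]
    conv_rhs => rw [← h1, cj_cj]
    congr 1
    show t * g = g * (g⁻¹ * t * g)
    group
  have hL : ∀ t : T, Implements ρ (t : G) (L t : Module.End ℂ (Fin n → ℂ)) := fun t =>
    (combine hC hD hCD hsup (hTC t.2) (hTD t.2) (hLA t).1 (hLA t).2 (hLB t).1 (hLB t).2).1
  -- the exchanging element
  obtain ⟨c, hc⟩ := implements_unique (hSF (mul_mem hgS hgS)) (hL ⟨g * g, hg2⟩)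
    (hq.mul hgF hq) (Units.isUnit _)
  have hc0 : c ≠ 0 := by
    intro h0
    have hu := (q * q).isUnit
    rw [Units.val_mul, hc, h0, zero_smul] at hu
    haveI : Nontrivial (Fin n → ℂ) :=
      Module.nontrivial_of_finrank_pos (Char.finrank_pos_of_irreducible ρ)
    exact not_isUnit_zero hu
  obtain ⟨e, he⟩ := IsAlgClosed.exists_pow_nat_eq c⁻¹ two_pos
  have he0 : e ≠ 0 := fun h => by rw [h, zero_pow two_ne_zero] at he; exact inv_ne_zero hc0 he.symm
  let ue : (Module.End ℂ (Fin n → ℂ))ˣ :=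
    Units.map (algebraMap ℂ (Module.End ℂ (Fin n → ℂ))).toMonoidHom (Units.mk0 e he0)
  let Q := ue * q
  have hue : (ue : Module.End ℂ (Fin n → ℂ)) = algebraMap ℂ _ e := rfl
  have hQimp : Implements ρ g (Q : Module.End ℂ (Fin n → ℂ)) := by
    show Implements ρ g ((ue : Module.End ℂ (Fin n → ℂ)) * q)
    rw [hue, ← Algebra.smul_def]
    exact hq.smul e
  have hueC : ∀ x : (Module.End ℂ (Fin n → ℂ))ˣ, ue * x = x * ue := fun x =>
    Units.ext (Algebra.commutes e (x : Module.End ℂ (Fin n → ℂ)))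
  have hQQ : Q * Q = L ⟨g * g, hg2⟩ := by
    refine Units.ext ?_
    show (ue : Module.End ℂ (Fin n → ℂ)) * q * ((ue : Module.End ℂ (Fin n → ℂ)) * q) = _
    rw [hue, ← Algebra.smul_def, smul_mul_smul_comm, hc, smul_smul, ← sq, he,
      inv_mul_cancel₀ hc0, one_smul]
  have hinvar : ∀ t t' : T, (t' : G) = g * t * g⁻¹ → Q * L t = L t' * Q := by
    intro t t' htt
    have e1 : θ t' = t := Subtype.ext (by
      show g⁻¹ * (t' : G) * g = t
      rw [htt]; group)
    have e2 : LB t' = q * LA t * q⁻¹ := by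
      show q * LA (θ t') * q⁻¹ = _
      rw [e1]
    have e3 : Q * LA t * Q⁻¹ = LB t' := by
      rw [e2]
      show ue * q * LA t * (ue * q)⁻¹ = _
      rw [mul_assoc ue q (LA t), hueC (q * LA t), mul_inv_rev]
      calc q * LA t * ue * (q⁻¹ * ue⁻¹) = q * LA t * (ue * q⁻¹) * ue⁻¹ := by group
        _ = q * LA t * (q⁻¹ * ue) * ue⁻¹ := by rw [hueC q⁻¹]
        _ = _ := by group
    have e4 : Q * LB t * Q⁻¹ = LA t' := by
      have e5 : LB t = Q * LA (θ t) * Q⁻¹ := by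
        show q * LA (θ t) * q⁻¹ = ue * q * LA (θ t) * (ue * q)⁻¹
        rw [mul_assoc ue q (LA (θ t)), hueC (q * LA (θ t)), mul_inv_rev]
        calc q * LA (θ t) * q⁻¹ = q * LA (θ t) * (q⁻¹ * ue) * ue⁻¹ := by group
          _ = q * LA (θ t) * (ue * q⁻¹) * ue⁻¹ := by rw [hueC q⁻¹]
          _ = _ := by group
      rw [e5]
      calc Q * (Q * LA (θ t) * Q⁻¹) * Q⁻¹ = (Q * Q) * LA (θ t) * (Q * Q)⁻¹ := by group
        _ = LA ⟨g * g, hg2⟩ * (LB ⟨g * g, hg2⟩ * LA (θ t)) *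
            ((LB ⟨g * g, hg2⟩)⁻¹ * (LA ⟨g * g, hg2⟩)⁻¹) := by
            rw [hQQ]
            show LA _ * LB _ * LA (θ t) * (LA _ * LB _)⁻¹ = _
            group
        _ = LA ⟨g * g, hg2⟩ * LA (θ t) * (LA ⟨g * g, hg2⟩)⁻¹ := by
            rw [← hcomm]; group
        _ = LA t' := by
            rw [← map_inv, ← map_mul, ← map_mul]
            congr 1
            refine Subtype.ext ?_
            show g * g * (g⁻¹ * t * g) * (g * g)⁻¹ = t'
            rw [htt]; group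
    show Q * (LA t * LB t) = LA t' * LB t' * Q
    rw [hcomm t' t', ← e3, ← e4]
    group
  have hord : ∀ j : ℤ, g ^ j ∈ T → Even j := by
    intro j hj
    by_contra hodd
    rw [Int.not_even_iff_odd] at hodd
    obtain ⟨i, rfl⟩ := hodd
    apply hg
    have : g = ((g * g) ^ i)⁻¹ * g ^ (2 * i + 1) := by
      rw [← pow_two, ← zpow_natCast g 2, ← zpow_mul, ← zpow_neg, ← zpow_add]
      norm_num
    rw [this]
    exact mul_mem (inv_mem (zpow_mem hg2 i)) hj
  have hQord : Q ^ orderOf g = 1 := by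
    obtain ⟨i, hi⟩ := hord (orderOf g) (by rw [zpow_natCast, pow_orderOf_eq_one]; exact one_mem T)
    obtain ⟨i, rfl⟩ : ∃ k : ℕ, i = k := ⟨i.toNat, by omega⟩
    have hi' : orderOf g = 2 * i := by omega
    rw [hi', pow_mul, sq, hQQ, ← map_pow]
    have : (⟨g * g, hg2⟩ : T) ^ i = 1 := Subtype.ext (by
      show (g * g) ^ i = 1
      rw [← sq, ← pow_mul, ← hi', pow_orderOf_eq_one])
    rw [this, map_one]
  obtain ⟨Lg, hLg⟩ := cyclic_hom g Q hQord
  obtain ⟨LS, hLS1, hLS2⟩ := glue (zpowers_le.2 hgT) L Lg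
    (by
      intro b a a' hab
      obtain ⟨j, hj⟩ := mem_zpowers_iff.1 b.2
      rw [hLg j b hj.symm]
      rw [← hj] at hab
      clear hj b
      induction j using Int.induction_on generalizing a a' with
      | zero => rw [show a' = a from Subtype.ext (by simpa using hab)]; simp
      | succ i ih =>
        have hm1 : g * (a : G) * g⁻¹ ∈ T := (mem_normalizer_iff.1 hgT a).1 a.2
        rw [zpow_add_one, mul_assoc, hinvar a ⟨_, hm1⟩ rfl, ← mul_assoc,
          ih ⟨_, hm1⟩ a' (by rw [hab, zpow_add_one]; group), mul_assoc]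
      | pred i ih =>
        have hm1 : g⁻¹ * (a : G) * g ∈ T := (θ a).2
        have h1 : Q⁻¹ * L a = L ⟨_, hm1⟩ * Q⁻¹ := by
          rw [inv_mul_eq_iff_eq_mul, ← mul_assoc, hinvar ⟨_, hm1⟩ a (by simp only; group),
            mul_inv_cancel_right]
        rw [zpow_sub_one, mul_assoc, h1, ← mul_assoc,
          ih ⟨_, hm1⟩ a' (by rw [hab, zpow_sub_one]; group), mul_assoc])
    (by
      intro a b hab
      obtain ⟨j, hj⟩ := mem_zpowers_iff.1 b.2
      rw [hLg j b hj.symm]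
      rw [← hj] at hab
      obtain ⟨i, rfl⟩ := hord j (hab ▸ a.2)
      rw [← two_mul, zpow_mul, zpow_ofNat, sq, hQQ, ← map_zpow]
      congr 1
      refine Subtype.ext ?_
      show (a : G) = (g * g) ^ i
      rw [hab, ← two_mul, zpow_mul, zpow_ofNat, sq])
  refine hasLift_of_irreducible hF ρ hz
    ((Units.coeHom _).comp (LS.comp (Subgroup.inclusion (le_of_eq hdec.symm)))) fun s => ?_
  obtain ⟨t, ht, x, hx, hts⟩ := (Solvable.mem_sup_of_le_normalizer (zpowers_le.2 hgT)).1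
    (show (s : G) ∈ T ⊔ zpowers g by rw [hdec]; exact s.2)
  obtain ⟨j, rfl⟩ : ∃ j : ℕ, g ^ j = x := mem_powers_iff_mem_zpowers.2 hx
  have hx' : Subgroup.inclusion (le_of_eq hdec.symm) s =
      ⟨t, mem_sup_left ht⟩ * ⟨g ^ j, mem_sup_right hx⟩ := Subtype.ext hts.symm
  show Implements ρ (s : G) ((LS (Subgroup.inclusion (le_of_eq hdec.symm) s) :
    (Module.End ℂ (Fin n → ℂ))ˣ) : Module.End ℂ (Fin n → ℂ))
  rw [hx', map_mul, hLS1 ⟨t, ht⟩ _ rfl, hLS2 ⟨g ^ j, hx⟩ _ rfl, hLg j _ (by simp),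
    zpow_natCast, Units.val_mul, Units.val_pow_eq_pow_val, ← hts]
  have hpow : ∀ i : ℕ, Implements ρ (g ^ i) ((Q : Module.End ℂ (Fin n → ℂ)) ^ i) := by
    intro i
    induction i with
    | zero => simpa using Implements.one ρ
    | succ i ih => rw [pow_succ, pow_succ]; exact ih.mul hgF hQimp
  exact (hL ⟨t, ht⟩).mul (pow_mem hgF j) (hpow j)

end CfsgLib.ExtraExt
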