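import Cfsg.Agent.Lib.ExtraExt.Basic
import Cfsg.Agent.Lib.Solvable.CoprimeAction
import Cfsg.Agent.Lib.Solvable.CoprimeGeneration

/-!
Decompositions of groups with centre `{1, z}` under a coprime action.
-/

set_option autoImplicit false
set_option linter.style.haveILetI false
set_option linter.unusedSectionVars false
set_option maxHeartbeats 800000

open Module Subgroup
open scoped commutatorElement

namespace CfsgLib.ExtraExt

universe u

variable {G : Type u} [Group G] {z : G} {F : Subgroup G}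

/-- The conjugate subgroup. -/
def cj (s : G) (B : Subgroup G) : Subgroup G := B.map (MulAut.conj s).toMonoidHom

theorem mem_cj {s x : G} {B : Subgroup G} : x ∈ cj s B ↔ s⁻¹ * x * s ∈ B := by
  constructor
  · rintro ⟨b, hb, rfl⟩
    have : s⁻¹ * (MulAut.conj s b) * s = b := by simp [MulAut.conj_apply, mul_assoc]
    exact this.symm ▸ hb
  · exact fun h => ⟨_, h, by simp [MulAut.conj_apply, mul_assoc]⟩

theorem cj_cj (s t : G) (B : Subgroup G) : cj s (cj t B) = cj (s * t) B := by
  ext x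
  simp only [mem_cj, mul_inv_rev, mul_assoc]

theorem cj_one (B : Subgroup G) : cj 1 B = B := by
  ext x; simp [mem_cj]

theorem cj_mono {s : G} {A B : Subgroup G} (h : A ≤ B) : cj s A ≤ cj s B := fun _ hx =>
  mem_cj.2 (h (mem_cj.1 hx))

theorem cj_sup (s : G) (A B : Subgroup G) : cj s (A ⊔ B) = cj s A ⊔ cj s B := Subgroup.map_sup _ _ _

theorem cj_eq_self {s : G} {B : Subgroup G} (hs : s ∈ normalizer (B : Set G)) : cj s B = B := by
  ext x
  rw [mem_cj]
  have h := (mem_normalizer_iff.1 (inv_mem hs) x)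
  rw [inv_inv] at h
  exact h.symm

theorem mem_normalizer_of_cj_eq {s : G} {B : Subgroup G} (hs : cj s B = B) :
    s ∈ normalizer (B : Set G) := by
  rw [mem_normalizer_iff]
  intro h
  conv_rhs => rw [← hs, mem_cj]
  simp [mul_assoc]

theorem cj_inf_centralizer {s : G} {B : Subgroup G} (hs : s ∈ normalizer (F : Set G)) :
    cj s (F ⊓ centralizer (B : Set G)) = F ⊓ centralizer (cj s B : Set G) := by
  ext x
  rw [mem_cj, mem_inf, mem_inf]
  refine and_congr ?_ ⟨fun h b hb => ?_, fun h b hb => ?_⟩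
  · conv_rhs => rw [← cj_eq_self hs, mem_cj]
  · have h1 := h _ (mem_cj.1 hb)
    calc b * x = s * ((s⁻¹ * b * s) * (s⁻¹ * x * s)) * s⁻¹ := by group
      _ = s * ((s⁻¹ * x * s) * (s⁻¹ * b * s)) * s⁻¹ := by rw [h1]
      _ = x * b := by group
  · have h1 := h (s * b * s⁻¹) (mem_cj.2 (by simpa [mul_assoc] using hb))
    calc b * (s⁻¹ * x * s) = s⁻¹ * ((s * b * s⁻¹) * x) * s := by group
      _ = s⁻¹ * (x * (s * b * s⁻¹)) * s := by rw [h1]
      _ = (s⁻¹ * x * s) * b := by group

theorem inf_centralizer_invariant {s : G} {B : Subgroup G} (hs : s ∈ normalizer (F : Set G))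
    (hB : s ∈ normalizer (B : Set G)) :
    s ∈ normalizer ((F ⊓ centralizer (B : Set G) : Subgroup G) : Set G) :=
  mem_normalizer_of_cj_eq (by rw [cj_inf_centralizer hs, cj_eq_self hB])

theorem Nice.zpowers_le (hF : Nice z F) : zpowers z ≤ F := Subgroup.zpowers_le.2 hF.zF

theorem Nice.mem_zpowers_iff (hF : Nice z F) {x : G} : x ∈ zpowers z ↔ x = 1 ∨ x = z := by
  refine ⟨fun h => ?_, fun h => ?_⟩
  · obtain ⟨j, rfl⟩ := Subgroup.mem_zpowers_iff.1 h
    rcases Int.even_or_odd j with ⟨c, rfl⟩ | ⟨c, rfl⟩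
    · left
      rw [zpow_add, ← (Commute.refl z).mul_zpow, hF.zz, one_zpow]
    · right
      rw [zpow_add, two_mul, zpow_add, ← (Commute.refl z).mul_zpow, hF.zz, one_zpow, one_mul,
        zpow_one]
  · rcases h with rfl | rfl
    · exact one_mem _
    · exact mem_zpowers _

/-- A pair of commuting elements of `F`. -/
theorem Nice.commute_twist (hF : Nice z F) {y x a : G} (hy : y ∈ F) (hx : x ∈ F)
    (hay : a * y * a⁻¹ = y) : Commute y (a * x * a⁻¹ * x⁻¹) := by
  obtain ⟨c, hc, hyx⟩ : ∃ c : G, (∀ g, g * c = c * g) ∧ y * x * y⁻¹ = c * x := by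
    rcases hF.comm y hy x hx with h | h
    · exact ⟨1, fun g => by simp, by
        rw [commutatorElement_def, mul_inv_eq_one] at h; simpa using h⟩
    · exact ⟨z, mem_center_iff.1 hF.zc, by rw [← h, commutatorElement_def]; group⟩
  have h1 : y * (a * x * a⁻¹) * y⁻¹ = c * (a * x * a⁻¹) := by
    calc y * (a * x * a⁻¹) * y⁻¹ = (a * y * a⁻¹) * (a * x * a⁻¹) * (a * y * a⁻¹)⁻¹ := by rw [hay]
      _ = a * (y * x * y⁻¹) * a⁻¹ := by group
      _ = (a * c) * x * a⁻¹ := by rw [hyx]; group
      _ = c * (a * x * a⁻¹) := by rw [hc a]; group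
  refine (mul_inv_eq_iff_eq_mul.1 ?_)
  calc y * (a * x * a⁻¹ * x⁻¹) * y⁻¹ = (y * (a * x * a⁻¹) * y⁻¹) * (y * x * y⁻¹)⁻¹ := by group
    _ = c * ((a * x * a⁻¹) * x⁻¹) * c⁻¹ := by rw [h1, hyx]; group
    _ = _ := by rw [← hc ((a * x * a⁻¹) * x⁻¹)]; group

/-- A fixed element commutes with the commutator. -/
theorem Nice.commute_commutator (hF : Nice z F) {A X : Subgroup G} (hX : X ≤ F) {y : G} (hy : y ∈ F)
    (hfix : ∀ a ∈ A, a * y = y * a) : ⁅X, A⁆ ≤ centralizer {y} := by
  rw [commutator_le]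
  intro x hx a ha
  rw [mem_centralizer_singleton_iff]
  have h := (hF.commute_twist hy (hX hx) (a := a) (by rw [hfix a ha, mul_inv_cancel_right])).inv_right
  have he : ⁅x, a⁆ = (a * x * a⁻¹ * x⁻¹)⁻¹ := by rw [commutatorElement_def]; group
  rw [he]
  exact h.eq.symm

variable [Finite G]

theorem coprime_of_odd (hF : Nice z F) {X : Subgroup G} (hX : X ≤ F) {A : Subgroup G}
    (hA : Odd (Nat.card A)) : (Nat.card A).Coprime (Nat.card X) := by
  obtain ⟨a, ha⟩ := (hF.pgrp.to_le hX).exists_card_eq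
  rw [ha]
  exact Nat.Coprime.pow_right a (Nat.coprime_two_right.2 hA)

theorem decomp_fixed (hF : Nice z F) {A X : Subgroup G} (hX : X ≤ F)
    (hAX : A ≤ normalizer (X : Set G)) (hA : Odd (Nat.card A)) :
    ⁅X, A⁆ ⊔ (X ⊓ centralizer (A : Set G)) = X :=
  Solvable.commutator_sup_centralizer hAX (coprime_of_odd hF hX hA)
    (Or.inr (by
      haveI : Group.IsNilpotent X := (hF.pgrp.to_le hX).isNilpotent
      infer_instance))

/-- Fixed points of a coprime action are again nice. -/
theorem centralizer_nice (hF : Nice z F) {A : Subgroup G} (hAF : A ≤ normalizer (F : Set G))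
    (hA : Odd (Nat.card A)) : Nice z (F ⊓ centralizer (A : Set G)) where
  zc := hF.zc
  z1 := hF.z1
  zz := hF.zz
  zF := mem_inf.2 ⟨hF.zF, fun a _ => mem_center_iff.1 hF.zc a⟩
  pgrp := hF.pgrp.to_le inf_le_left
  comm := fun x hx y hy => hF.comm x (mem_inf.1 hx).1 y (mem_inf.1 hy).1
  ctr := by
    intro x hx hc
    obtain ⟨hxF, hxA⟩ := mem_inf.1 hx
    refine hF.ctr x hxF fun y hy => ?_
    have hle : F ≤ centralizer {x} := by
      rw [← decomp_fixed hF le_rfl hAF hA]
      refine sup_le (hF.commute_commutator le_rfl hxF fun a ha => hxA a ha) fun c hc' => ?_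
      rw [mem_centralizer_singleton_iff]
      exact (hc c hc').symm
    exact (mem_centralizer_singleton_iff.1 (hle hy)).symm

/-- Components for two different hyperplanes commute. -/
theorem components_commute (hF : Nice z F) {K B B' : Subgroup G} (hK : B ⊔ B' = K)
    (hB : Odd (Nat.card B)) (hBF : B ≤ normalizer (F : Set G)) (hBB' : B ≤ normalizer (B' : Set G))
    (hfix : ∀ f ∈ F, (∀ k ∈ K, k * f = f * k) → f = 1 ∨ f = z) :
    ∀ x ∈ F ⊓ centralizer (B' : Set G), ∀ y ∈ F ⊓ centralizer (B : Set G), Commute x y := by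
  intro x hx y hy
  set X := F ⊓ centralizer (B' : Set G) with hX
  have hBX : B ≤ normalizer (X : Set G) := fun b hb =>
    inf_centralizer_invariant (hBF hb) (hBB' hb)
  have hle : X ≤ centralizer {y} := by
    refine (decomp_fixed hF (X := X) inf_le_left hBX hB).ge.trans ?_
    refine sup_le (hF.commute_commutator inf_le_left (mem_inf.1 hy).1
      fun a ha => (mem_inf.1 hy).2 a ha) fun c hc => ?_
    rw [mem_centralizer_singleton_iff]
    obtain ⟨hcX, hcB⟩ := mem_inf.1 hc
    rcases hfix c (mem_inf.1 hcX).1 (fun k hk => by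
      have h1 : K ≤ centralizer {c} := hK ▸ sup_le
        (fun b hb => mem_centralizer_singleton_iff.2 (hcB b hb))
        (fun b hb => mem_centralizer_singleton_iff.2 ((mem_inf.1 hcX).2 b hb))
      exact mem_centralizer_singleton_iff.1 (h1 hk)) with rfl | rfl
    · simp
    · exact (mem_center_iff.1 hF.zc y).symm
  exact mem_centralizer_singleton_iff.1 (hle hx)

/-- Two commuting nice subgroups generate a nice subgroup. -/
theorem nice_sup (hF : Nice z F) {A B : Subgroup G} (hA : Nice z A) (hB : Nice z B) (hAF : A ≤ F)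
    (hBF : B ≤ F) (hAB : ∀ a ∈ A, ∀ b ∈ B, Commute a b) : Nice z (A ⊔ B) where
  zc := hF.zc
  z1 := hF.z1
  zz := hF.zz
  zF := mem_sup_left hA.zF
  pgrp := hF.pgrp.to_le (sup_le hAF hBF)
  comm := fun x hx y hy => hF.comm x (sup_le hAF hBF hx) y (sup_le hAF hBF hy)
  ctr := by
    intro x hx hc
    have hBA : B ≤ normalizer (A : Set G) := by
      intro b hb
      refine mem_normalizer_of_cj_eq ?_
      ext a
      rw [mem_cj]
      constructor
      · intro h
        have h1 := (hAB _ h b hb).eq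
        have : a = b⁻¹ * a * b := by
          calc a = b * (b⁻¹ * a * b) * b⁻¹ := by group
            _ = b⁻¹ * a * b := by rw [← h1, mul_inv_cancel_right]
        exact this.symm ▸ h
      · intro h
        rwa [mul_assoc, (hAB a h b hb).eq, inv_mul_cancel_left]
    obtain ⟨a, ha, b, hb, rfl⟩ := (Solvable.mem_sup_of_le_normalizer hBA).1 hx
    have hz' : ∀ c : G, c = 1 ∨ c = z → ∀ g, c * g = g * c := by
      rintro c (rfl | rfl) g
      · simp
      · exact (mem_center_iff.1 hF.zc g).symm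
    have ha' : a = 1 ∨ a = z := hA.ctr a ha fun c hc' => by
      have h1 := hc c (mem_sup_left hc')
      rw [mul_assoc, ← (hAB c hc' b hb).eq, ← mul_assoc, ← mul_assoc] at h1
      exact mul_right_cancel h1
    have hb' : b = 1 ∨ b = z := hB.ctr b hb fun c hc' => by
      have h1 := hc c (mem_sup_right hc')
      rw [mul_assoc, ← mul_assoc c, ← (hAB a ha c hc').eq, mul_assoc a c b] at h1
      exact mul_left_cancel h1
    rcases ha' with rfl | rfl <;> rcases hb' with rfl | rfl <;> simp [hF.zz]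

theorem nice_zpowers (hF : Nice z F) : Nice z (zpowers z) where
  zc := hF.zc
  z1 := hF.z1
  zz := hF.zz
  zF := mem_zpowers z
  pgrp := hF.pgrp.to_le hF.zpowers_le
  comm := fun x hx y hy => hF.comm x (hF.zpowers_le hx) y (hF.zpowers_le hy)
  ctr := fun _ hx _ => hF.mem_zpowers_iff.1 hx

theorem nice_finset (hF : Nice z F) {ι : Type*} (X : ι → Subgroup G)
    (hX : ∀ i, Nice z (X i) ∧ X i ≤ F)
    (hXX : ∀ i j, X i = X j ∨ ∀ a ∈ X i, ∀ b ∈ X j, Commute a b) (s : Finset ι) :
    Nice z (zpowers z ⊔ s.sup X) ∧ zpowers z ⊔ s.sup X ≤ F := by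
  classical
  induction s using Finset.induction_on with
  | empty => simpa using And.intro (nice_zpowers hF) hF.zpowers_le
  | @insert i s his ih =>
    have hle : zpowers z ⊔ (insert i s).sup X ≤ F :=
      sup_le hF.zpowers_le (Finset.sup_le fun j _ => (hX j).2)
    refine ⟨?_, hle⟩
    rw [Finset.sup_insert, sup_left_comm]
    by_cases h : ∃ j ∈ s, X i = X j
    · obtain ⟨j, hj, hij⟩ := h
      rw [sup_eq_right.2 (hij ▸ (Finset.le_sup hj).trans le_sup_right)]
      exact ih.1
    · push Not at h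
      refine nice_sup hF (hX i).1 ih.1 (hX i).2 ih.2 fun a ha b hb => ?_
      have hle : zpowers z ⊔ s.sup X ≤ centralizer {a} := by
        refine sup_le (Subgroup.zpowers_le.2 (mem_centralizer_singleton_iff.2
          (mem_center_iff.1 hF.zc a).symm)) (Finset.sup_le fun j hj c hc => ?_)
        rw [mem_centralizer_singleton_iff]
        exact (((hXX i j).resolve_left (h j hj)) a ha c hc).eq.symm
      exact (mem_centralizer_singleton_iff.1 (hle hb)).symm

/-- A nice subgroup has a complement, its centraliser. -/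
theorem sup_centralizer_eq (hF : Nice z F) {W : Subgroup G} (hW : Nice z W) (hWF : W ≤ F) :
    W ⊔ (F ⊓ centralizer (W : Set G)) = F := by
  classical
  refine le_antisymm (sup_le hWF inf_le_left) fun f hf => ?_
  obtain ⟨m, ρ, hρ, hz⟩ := exists_irreducible hW
  haveI := hρ
  haveI : Fintype W := Fintype.ofFinite W
  have hcm : ∀ x ∈ F, ∀ y ∈ F, ∃ c : G, (c = 1 ∨ c = z) ∧ x * y * x⁻¹ = c * y := fun x hx y hy =>
    ⟨⁅x, y⁆, hF.comm x hx y hy, by rw [commutatorElement_def]; group⟩
  have hfW : f ∈ normalizer (W : Set G) := by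
    refine Subgroup.mem_normalizer_fintype fun w hw => ?_
    obtain ⟨c, hc, h⟩ := hcm f hf w (hWF hw)
    rw [h]
    rcases hc with rfl | rfl
    · simpa using hw
    · exact mul_mem hW.zF hw
  obtain ⟨X, hXu, hX⟩ := exists_implements hW hz hfW
  obtain ⟨w, hw⟩ : ∃ w : W, LinearMap.trace ℂ _ (X * ρ w⁻¹) ≠ 0 := by
    by_contra hall
    push Not at hall
    have h := fourier (ρ := ρ) X
    simp only [hall, zero_smul, Finset.sum_const_zero] at h
    have hm := Char.finrank_pos_of_irreducible ρ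
    rw [Module.finrank_fin_fun] at hm
    haveI : Nontrivial (Fin m → ℂ) :=
      Module.nontrivial_of_finrank_pos (R := ℂ) (by rw [Module.finrank_fin_fun]; exact hm)
    rcases smul_eq_zero.1 h.symm with h0 | h0
    · exact (div_ne_zero (Nat.cast_ne_zero.2 Fintype.card_ne_zero)
        (Nat.cast_ne_zero.2 hm.ne')) h0
    · exact not_isUnit_zero (h0 ▸ hXu)
  have key : ∀ g ∈ W, f * g * f⁻¹ = (w : G) * g * (w : G)⁻¹ := by
    intro g hg
    obtain ⟨c, hc, hfg⟩ := hcm f hf g (hWF hg)
    obtain ⟨c', hc', hwg⟩ := hcm w (hWF w.2) g (hWF hg)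
    rw [hfg, hwg]
    congr 1
    by_contra hne
    have hcc : c * c' = z := by
      rcases hc with rfl | rfl <;> rcases hc' with rfl | rfl <;>
        first | exact absurd rfl hne | simp
    have hsign : ∀ (d : G), (d = 1 ∨ d = z) → ∀ hd : d ∈ W,
        ∃ e : ℂ, ρ ⟨d, hd⟩ = e • 1 ∧ (d = 1 → e = 1) ∧ (d = z → e = -1) := by
      rintro d (rfl | rfl) hd
      · exact ⟨1, by rw [one_smul]; exact map_one ρ, fun _ => rfl,
          fun h => absurd h.symm hF.z1⟩
      · exact ⟨-1, hz.trans (neg_one_smul ℂ (1 : Module.End ℂ (Fin m → ℂ))).symm, fun h => absurd h hF.z1, fun _ => rfl⟩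
    have hcW : ∀ d, (d = 1 ∨ d = z) → d ∈ W := by
      rintro d (rfl | rfl)
      · exact one_mem W
      · exact hW.zF
    obtain ⟨e, he, he1, hez⟩ := hsign c hc (hcW c hc)
    obtain ⟨e', he', he1', hez'⟩ := hsign c' hc' (hcW c' hc')
    have hee : e * e' = -1 := by
      rcases hc with rfl | rfl <;> rcases hc' with rfl | rfl
      · exact absurd rfl hne
      · rw [he1 rfl, hez' rfl, one_mul]
      · rw [hez rfl, he1' rfl, mul_one]
      · exact absurd rfl hne
    -- commute `g` past `X` and past `w`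
    let g' : W := ⟨g, hg⟩
    have h1 : X * ρ g' = e • (ρ g' * X) := by
      rw [hX g' (⟨c, hcW c hc⟩ * g') (by simpa using hfg.symm), map_mul, he, smul_mul_assoc,
        smul_mul_assoc, one_mul]
    have h2 : g' * w⁻¹ = w⁻¹ * (⟨c', hcW c' hc'⟩ * g') := by
      refine Subtype.ext ?_
      show g * (w : G)⁻¹ = (w : G)⁻¹ * (c' * g)
      rw [← hwg]; group
    have h3 : ρ g' * ρ w⁻¹ = e' • (ρ w⁻¹ * ρ g') := by
      rw [← map_mul, h2, map_mul, map_mul, he', smul_mul_assoc, one_mul, mul_smul_comm]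
    have h4 : LinearMap.trace ℂ _ (X * ρ w⁻¹) = (e * e') * LinearMap.trace ℂ _ (X * ρ w⁻¹) := by
      calc LinearMap.trace ℂ _ (X * ρ w⁻¹)
          = LinearMap.trace ℂ _ (X * ρ g' * (ρ g'⁻¹ * ρ w⁻¹)) := by
            rw [← mul_assoc, mul_assoc X, ← map_mul ρ g' g'⁻¹, mul_inv_cancel, map_one, mul_one]
        _ = e * LinearMap.trace ℂ _ (ρ g' * X * (ρ g'⁻¹ * ρ w⁻¹)) := by
            rw [h1, smul_mul_assoc, map_smul, smul_eq_mul]
        _ = e * LinearMap.trace ℂ _ (X * ρ g'⁻¹ * (ρ w⁻¹ * ρ g')) := by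
            congr 1
            rw [mul_assoc (ρ g') X, LinearMap.trace_mul_comm]
            simp only [mul_assoc]
        _ = (e * e') * LinearMap.trace ℂ _ (X * ρ w⁻¹) := by
            rcases (show e' * e' = 1 by
              rcases hc' with rfl | rfl
              · rw [he1' rfl, one_mul]
              · rw [hez' rfl]; norm_num) with hee'
            have h5 : ρ w⁻¹ * ρ g' = e' • (ρ g' * ρ w⁻¹) := by
              rw [h3, smul_smul, hee', one_smul]
            rw [h5, mul_smul_comm, map_smul, smul_eq_mul, ← mul_assoc, ← mul_assoc,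
              mul_assoc X, ← map_mul ρ g'⁻¹ g', inv_mul_cancel, map_one, mul_one]
    rw [hee, neg_one_mul] at h4
    exact hw (by linear_combination (1 / 2 : ℂ) * h4)
  have hfin : (w : G)⁻¹ * f ∈ F ⊓ centralizer (W : Set G) := by
    refine mem_inf.2 ⟨mul_mem (inv_mem (hWF w.2)) hf, fun g hg => ?_⟩
    calc g * ((w : G)⁻¹ * f) = (w : G)⁻¹ * ((w : G) * g * (w : G)⁻¹) * f := by group
      _ = (w : G)⁻¹ * (f * g * f⁻¹) * f := by rw [key g hg]
      _ = (w : G)⁻¹ * f * g := by group
  have : f = (w : G) * ((w : G)⁻¹ * f) := by group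
  rw [this]
  exact mul_mem (mem_sup_left w.2) (mem_sup_right hfin)

theorem centralizer_nice_compl (hF : Nice z F) {W : Subgroup G} (hW : Nice z W) (hWF : W ≤ F) :
    Nice z (F ⊓ centralizer (W : Set G)) where
  zc := hF.zc
  z1 := hF.z1
  zz := hF.zz
  zF := mem_inf.2 ⟨hF.zF, fun a _ => mem_center_iff.1 hF.zc a⟩
  pgrp := hF.pgrp.to_le inf_le_left
  comm := fun x hx y hy => hF.comm x (mem_inf.1 hx).1 y (mem_inf.1 hy).1
  ctr := by
    intro x hx hc
    obtain ⟨hxF, hxW⟩ := mem_inf.1 hx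
    refine hF.ctr x hxF fun y hy => ?_
    have hle : F ≤ centralizer {x} := by
      rw [← sup_centralizer_eq hF hW hWF]
      exact sup_le (fun c hc' => mem_centralizer_singleton_iff.2 (hxW c hc'))
        fun c hc' => mem_centralizer_singleton_iff.2 (hc c hc').symm
    exact (mem_centralizer_singleton_iff.1 (hle hy)).symm

/-- A two-dimensional action fixes something nontrivial modulo `z`. -/
theorem exists_line_fixed {M K : Subgroup G} {r : ℕ} [Fact r.Prime] (hr2 : r ≠ 2) (hM : Nice z M)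
    (hMne : ∃ x ∈ M, x ≠ 1 ∧ x ≠ z) (hKM : K ≤ normalizer (M : Set G)) {a b : G} (ha : a ∈ K)
    (hb : b ∈ K) (hexp : ∀ k ∈ K, ∀ f ∈ M, k ^ r * f * (k ^ r)⁻¹ = f)
    (hab : ∀ f ∈ M, (a * b) * f * (a * b)⁻¹ = (b * a) * f * (b * a)⁻¹) :
    ∃ c : G, ((∃ i : ℕ, c = a * b ^ i) ∨ c = b) ∧
      ∃ x ∈ M, x ≠ 1 ∧ x ≠ z ∧ c * x = x * c := by
  classical
  have hr : r.Prime := Fact.out
  by_contra hno
  push Not at hno
  obtain ⟨x₀, hx₀, hx1, hxz⟩ := hMne
  let N : Subgroup M := (zpowers z).subgroupOf M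
  haveI : N.Normal := ⟨fun n hn g => by
    rw [mem_subgroupOf] at hn ⊢
    have : ((g * n * g⁻¹ : M) : G) = n := by
      rcases hM.mem_zpowers_iff.1 hn with h | h <;> simp only [Subgroup.coe_mul, InvMemClass.coe_inv, h]
      · simp
      · rw [mem_center_iff.1 hM.zc (g : G), mul_inv_cancel_right]
    rw [this]; exact hn⟩
  letI : CommGroup (M ⧸ N) :=
    { (inferInstance : Group (M ⧸ N)) with
      mul_comm := fun x y => by
        obtain ⟨x, rfl⟩ := QuotientGroup.mk_surjective x
        obtain ⟨y, rfl⟩ := QuotientGroup.mk_surjective y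
        rw [← QuotientGroup.mk_mul, ← QuotientGroup.mk_mul, QuotientGroup.eq, mem_subgroupOf]
        rcases hM.comm _ (inv_mem y.2) _ (inv_mem x.2) with h | h <;>
        · rw [commutatorElement_def] at h
          simp only [Subgroup.coe_mul, InvMemClass.coe_inv, mul_inv_rev]
          rw [show (y : G)⁻¹ * (x : G)⁻¹ * ((y : G) * x) =
            (y : G)⁻¹ * (x : G)⁻¹ * ((y : G)⁻¹)⁻¹ * ((x : G)⁻¹)⁻¹ by group, h]
          first | exact one_mem _ | exact mem_zpowers _ }
  have hnat : ∀ (k : K), ∀ y : M, (k : G) * y * (k : G)⁻¹ ∈ M := fun k y =>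
    (mem_normalizer_iff.1 (hKM k.2) y).1 y.2
  let φ : K →* Monoid.End (M ⧸ N) :=
    { toFun := fun k => QuotientGroup.lift N
        ((QuotientGroup.mk' N).comp
          { toFun := fun y => ⟨_, hnat k y⟩
            map_one' := Subtype.ext (by simp)
            map_mul' := fun y y' => Subtype.ext (by simp [mul_assoc]) })
        (fun y hy => by
          rw [MonoidHom.mem_ker, MonoidHom.comp_apply, QuotientGroup.mk'_apply,
            QuotientGroup.eq_one_iff, mem_subgroupOf]
          rw [mem_subgroupOf] at hy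
          show (k : G) * y * (k : G)⁻¹ ∈ zpowers z
          rcases hM.mem_zpowers_iff.1 hy with h | h <;> rw [h]
          · simp
          · rw [mem_center_iff.1 hM.zc (k : G), mul_inv_cancel_right]; exact mem_zpowers z)
      map_one' := MonoidHom.ext fun v => by
        obtain ⟨y, rfl⟩ := QuotientGroup.mk_surjective v
        exact congrArg QuotientGroup.mk (Subtype.ext (by simp))
      map_mul' := fun k l => MonoidHom.ext fun v => by
        obtain ⟨y, rfl⟩ := QuotientGroup.mk_surjective v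
        exact congrArg QuotientGroup.mk (Subtype.ext (by simp [mul_assoc])) }
  have hφ : ∀ (k : K) (y : M), φ k (y : M ⧸ N) = ((⟨_, hnat k y⟩ : M) : M ⧸ N) := fun _ _ => rfl
  have hexp' : ∀ k : K, φ k ^ r = 1 := fun k => by
    rw [← map_pow]
    refine MonoidHom.ext fun v => ?_
    obtain ⟨y, rfl⟩ := QuotientGroup.mk_surjective v
    exact congrArg QuotientGroup.mk (Subtype.ext (hexp k k.2 y y.2))
  have hlift : ∀ c : K, ((∃ i : ℕ, (c : G) = a * b ^ i) ∨ (c : G) = b) →
      ∀ v, φ c v = v → v = 1 := by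
    intro c hc v hv
    obtain ⟨y, rfl⟩ := QuotientGroup.mk_surjective v
    rw [hφ, QuotientGroup.eq, mem_subgroupOf] at hv
    rw [QuotientGroup.eq_one_iff, mem_subgroupOf]
    have hfix : (c : G) * y * (c : G)⁻¹ = y := by
      have hcase : ((c : G) * y * (c : G)⁻¹)⁻¹ * y = 1 ∨
          ((c : G) * y * (c : G)⁻¹)⁻¹ * y = z := hM.mem_zpowers_iff.1 hv
      rcases hcase with h | h
      · exact inv_mul_eq_one.1 h
      · have h' : (c : G) * y * (c : G)⁻¹ = z * y := by
          rw [inv_mul_eq_iff_eq_mul] at h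
          symm
          calc z * (y : G) = y * z := (mem_center_iff.1 hM.zc (y : G)).symm
            _ = ((c : G) * y * (c : G)⁻¹ * z) * z := congrArg (· * z) h
            _ = _ := by rw [mul_assoc _ z z, hM.zz, mul_one]
        exfalso
        have hit : ∀ j : ℕ, (c : G) ^ j * y * ((c : G) ^ j)⁻¹ = z ^ j * y := by
          intro j
          induction j with
          | zero => simp
          | succ j ih =>
            calc (c : G) ^ (j + 1) * y * ((c : G) ^ (j + 1))⁻¹
                = (c : G) * ((c : G) ^ j * y * ((c : G) ^ j)⁻¹) * (c : G)⁻¹ := by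
                  rw [pow_succ']; group
              _ = ((c : G) * z ^ j) * y * (c : G)⁻¹ := by rw [ih]; group
              _ = z ^ j * ((c : G) * y * (c : G)⁻¹) := by
                  rw [mem_center_iff.1 (pow_mem hM.zc j) (c : G)]; group
              _ = z ^ (j + 1) * y := by rw [h', pow_succ, mul_assoc]
        have h3 := hit r
        rw [hexp c c.2 y y.2] at h3
        obtain ⟨q, hq⟩ := hr.odd_of_ne_two hr2
        rw [hq, pow_succ, pow_mul, sq, hM.zz, one_pow, one_mul] at h3
        exact hM.z1 (mul_eq_right.1 h3.symm)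
    refine hM.mem_zpowers_iff.2 ?_
    by_contra hy
    push Not at hy
    exact hno c hc y y.2 hy.1 hy.2 (mul_inv_eq_iff_eq_mul.1 hfix)
  have hr' : ¬ r ∣ Nat.card (M ⧸ N) := by
    intro h
    obtain ⟨e, he⟩ := hM.pgrp.exists_card_eq
    have h2 : r ∣ 2 ^ e := he ▸ h.trans (card_quotient_dvd_card N)
    exact hr2 ((Nat.prime_dvd_prime_iff_eq hr Nat.prime_two).1 (hr.dvd_of_dvd_pow h2))
  have hcom : Commute (φ ⟨a, ha⟩) (φ ⟨b, hb⟩) := by
    show _ * _ = _ * _
    rw [← map_mul, ← map_mul]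
    refine MonoidHom.ext fun v => ?_
    obtain ⟨y, rfl⟩ := QuotientGroup.mk_surjective v
    exact congrArg QuotientGroup.mk (Subtype.ext (hab y y.2))
  have hx := Solvable.mem_of_lines_fixed hr' (φ ⟨a, ha⟩) (φ ⟨b, hb⟩) (hexp' _) (hexp' _) hcom ⊥
    (fun i v hv => by
      rw [← map_pow, ← map_mul] at hv
      exact Subgroup.mem_bot.2 (hlift _ (Or.inl ⟨i, rfl⟩) v hv))
    (fun v hv => Subgroup.mem_bot.2 (hlift _ (Or.inr rfl) v hv))
    ((⟨x₀, hx₀⟩ : M) : M ⧸ N)
  rw [Subgroup.mem_bot, QuotientGroup.eq_one_iff, mem_subgroupOf] at hx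
  rcases hM.mem_zpowers_iff.1 hx with h | h
  · exact hx1 h
  · exact hxz h

end CfsgLib.ExtraExt
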