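import Cfsg.Agent.Lib.ExtraExt.Base
import Cfsg.Agent.Lib.ExtraExt.Decomp
import Cfsg.Agent.Lib.ExtraExt.Combine

/-!
Lifts of the `2`-groups normalising an odd solvable group that acts fully.
-/

set_option autoImplicit false
set_option linter.style.haveILetI false
set_option linter.unusedSectionVars false
set_option maxHeartbeats 1600000

open Module Subgroup
open scoped commutatorElement

namespace CfsgLib.ExtraExt

universe u

variable {G : Type u} [Group G] [Finite G] {z : G}

/-- `K` acts fully on `F`. -/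
def Full (z : G) (F K : Subgroup G) : Prop :=
  ∀ f ∈ F, (∀ k ∈ K, k * f = f * k) → f = 1 ∨ f = z

theorem mem_normalizer_of_cj_le {s : G} {B : Subgroup G} (h : cj s B ≤ B) :
    s ∈ normalizer (B : Set G) :=
  mem_normalizer_of_cj_eq (eq_of_le_of_card_ge h
    (le_of_eq (Subgroup.card_map_of_injective (MulAut.conj s).injective).symm))

/-- The induction hypothesis below `F, K`. -/
def Below (z : G) (m : ℕ) : Prop :=
  ∀ F K S : Subgroup G, Nat.card F + Nat.card K < m → Nice z F → IsPGroup 2 S →
    S ≤ normalizer (F : Set G) → K ≤ normalizer (F : Set G) → S ≤ normalizer (K : Set G) →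
    Odd (Nat.card K) → Group.IsSolvable K → Full z F K → HasLift z F S

theorem card_lt_of_lt {A B : Subgroup G} (h : A ≤ B) (hne : A ≠ B) : Nat.card A < Nat.card B :=
  lt_of_le_of_ne (card_le_of_le h) fun he => hne (eq_of_le_of_card_ge h he.ge)

theorem trivial_case {F S : Subgroup G} (hF : Nice z F) (h : F ≤ zpowers z) : HasLift z F S := by
  intro n ρ _
  refine ⟨1, fun s => ⟨?_, (Algebra.adjoin ℂ (Set.range ρ)).one_mem⟩⟩
  intro f f' hff
  show (1 : Module.End ℂ (Fin n → ℂ)) * ρ f = ρ f' * 1
  have : f' = f := by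
    refine Subtype.ext ?_
    rw [hff]
    rcases hF.mem_zpowers_iff.1 (h f.2) with h1 | h1 <;> rw [h1]
    · simp
    · rw [mem_center_iff.1 hF.zc (s : G), mul_inv_cancel_right]
  rw [this, one_mul, mul_one]

/-- The recursion through a nice invariant subgroup. -/
theorem split_rec {F K S W : Subgroup G} {m : ℕ} (ih : Below z m)
    (hm : Nat.card F + Nat.card K ≤ m) (hF : Nice z F) (hS : IsPGroup 2 S)
    (hSF : S ≤ normalizer (F : Set G)) (hKF : K ≤ normalizer (F : Set G))
    (hSK : S ≤ normalizer (K : Set G)) (hK : Odd (Nat.card K)) (hsol : Group.IsSolvable K)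
    (hfull : Full z F K) (hW : Nice z W) (hWF : W ≤ F) (hWne : W ≠ F)
    (hWz : ¬ W ≤ zpowers z) (hSW : S ≤ normalizer (W : Set G))
    (hKW : K ≤ normalizer (W : Set G)) : HasLift z F S := by
  have hlt : Nat.card W + Nat.card K < m := by
    have := card_lt_of_lt hWF hWne; omega
  have hDlt : Nat.card (F ⊓ centralizer (W : Set G) : Subgroup G) + Nat.card K < m := by
    have hne : F ⊓ centralizer (W : Set G) ≠ F := fun h => hWz fun w hw => hF.mem_zpowers_iff.2
      (hF.ctr w (hWF hw) fun y hy => (mem_inf.1 (h.ge hy)).2 w hw)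
    have := card_lt_of_lt inf_le_left hne; omega
  refine split hF hW hWF hSF hSW
    (ih W K S hlt hW hS hSW hKW hSK hK hsol fun f hf => hfull f (hWF hf))
    (ih _ K S hDlt (centralizer_nice_compl hF hW hWF) hS
      (fun s hs => inf_centralizer_invariant (hSF hs) (hSW hs))
      (fun k hk => inf_centralizer_invariant (hKF hk) (hKW hk)) hSK hK hsol
      fun f hf => hfull f (mem_inf.1 hf).1)

theorem solvable_of_le {A K : Subgroup G} (h : A ≤ K) (hK : Group.IsSolvable K) :
    Group.IsSolvable A :=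
  @Group.isSolvable_of_isSolvable_injective _ _ _ _ _ (inclusion_injective h) hK

/-- The case where the action is abelian of prime exponent without invariant subgroups. -/
theorem abelian_case {F K S : Subgroup G} {m : ℕ} (ih : Below z m)
    (hm : Nat.card F + Nat.card K ≤ m) (hF : Nice z F) (hS : IsPGroup 2 S)
    (hSF : S ≤ normalizer (F : Set G)) (hKF : K ≤ normalizer (F : Set G))
    (hSK : S ≤ normalizer (K : Set G)) (hK : Odd (Nat.card K)) (hsol : Group.IsSolvable K)
    (hfull : Full z F K) (hne : ¬ F ≤ zpowers z) {r : ℕ} [Fact r.Prime] (hr2 : r ≠ 2)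
    (hcomm : ∀ a ∈ K, ∀ b ∈ K, ⁅a, b⁆ ∈ centralizer (F : Set G))
    (hexp : ∀ k ∈ K, k ^ r ∈ centralizer (F : Set G)) : HasLift z F S := by
  classical
  have hr : r.Prime := Fact.out
  have hact : ∀ c ∈ centralizer (F : Set G), ∀ f ∈ F, c * f * c⁻¹ = f := fun c hc f hf => by
    rw [← hc f hf, mul_inv_cancel_right]
  set K₀ := K ⊓ centralizer (F : Set G) with hK₀
  let P : Set (Subgroup G) :=
    {B | K₀ ≤ B ∧ B ≤ K ∧ ¬ F ⊓ centralizer (B : Set G) ≤ zpowers z}
  obtain ⟨B, ⟨hB0, hBK, hBz⟩, hmax⟩ := Set.exists_max_image P (fun B => Nat.card B)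
    (Set.toFinite _) ⟨K₀, le_rfl, inf_le_left, fun h => hne fun f hf => h
      (mem_inf.2 ⟨hf, fun c hc => ((mem_inf.1 hc).2 f hf).symm⟩)⟩
  have hKB : ∀ B' : Subgroup G, K₀ ≤ B' → B' ≤ K → K ≤ normalizer (B' : Set G) := by
    intro B' h0 h1 k hk
    refine mem_normalizer_of_cj_le fun x hx => ?_
    have hb := mem_cj.1 hx
    have he : x = ⁅k, k⁻¹ * x * k⁆ * (k⁻¹ * x * k) := by rw [commutatorElement_def]; group
    rw [he]
    refine mul_mem (h0 (mem_inf.2 ⟨?_, hcomm k hk _ (h1 hb)⟩)) hb
    rw [commutatorElement_def]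
    exact mul_mem (mul_mem (mul_mem hk (h1 hb)) (inv_mem hk)) (inv_mem (h1 hb))
  have hBF : B ≤ normalizer (F : Set G) := hBK.trans hKF
  have hBodd : Odd (Nat.card B) := hK.of_dvd_nat (card_dvd_of_le hBK)
  set M := F ⊓ centralizer (B : Set G) with hMdef
  have hM : Nice z M := centralizer_nice hF hBF hBodd
  have hKM : K ≤ normalizer (M : Set G) := fun k hk =>
    inf_centralizer_invariant (hKF hk) (hKB B hB0 hBK hk)
  -- every element outside `B` generates `K` over `B`
  have hyper : ∀ a ∈ K, a ∉ B → B ⊔ zpowers a = K := by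
    intro a ha haB
    refine le_antisymm (sup_le hBK (zpowers_le.2 ha)) fun b hb => ?_
    by_contra hbB'
    have hMne : ∃ x ∈ M, x ≠ 1 ∧ x ≠ z := by
      by_contra hno
      push Not at hno
      exact hBz fun x hx => hF.mem_zpowers_iff.2 (or_iff_not_imp_left.2 (hno x hx))
    obtain ⟨c, hc, x, hx, hx1, hxz, hcx⟩ := exists_line_fixed hr2 hM hMne hKM ha hb
      (fun k hk f hf => hact _ (hexp k hk) f (mem_inf.1 hf).1)
      (fun f hf => by
        have h := hact _ (hcomm a ha b hb) f (mem_inf.1 hf).1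
        have hg : (b * a) * f * (b * a)⁻¹ ∈ F :=
          (mem_normalizer_iff.1 (hKF (mul_mem hb ha)) f).1 (mem_inf.1 hf).1
        have h2 := hact _ (hcomm a ha b hb) _ hg
        rw [commutatorElement_def] at h2
        conv_rhs => rw [← h2]
        group)
    have hcK : c ∈ K := by
      rcases hc with ⟨i, rfl⟩ | rfl
      · exact mul_mem ha (pow_mem hb i)
      · exact hb
    have hcB : c ∉ B := by
      rcases hc with ⟨i, rfl⟩ | rfl
      · intro hab
        have hbi : b ^ i ∈ B ⊔ zpowers a := by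
          have : b ^ i = a⁻¹ * (a * b ^ i) := by group
          rw [this]
          exact mul_mem (mem_sup_right (inv_mem (mem_zpowers a))) (mem_sup_left hab)
        have hbr : b ^ r ∈ B ⊔ zpowers a :=
          mem_sup_left (hB0 (mem_inf.2 ⟨pow_mem hb r, hexp b hb⟩))
        by_cases hri : r ∣ i
        · obtain ⟨j, rfl⟩ := hri
          apply haB
          have : a = (a * b ^ (r * j)) * ((b ^ r) ^ j)⁻¹ := by rw [← pow_mul]; group
          rw [this]
          exact mul_mem hab (inv_mem (pow_mem (hB0 (mem_inf.2 ⟨pow_mem hb r, hexp b hb⟩)) j))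
        · apply hbB'
          have hco : Nat.Coprime i r := ((hr.coprime_iff_not_dvd).2 hri).symm
          obtain ⟨u, -, hu⟩ := Nat.exists_mul_mod_eq_one_of_coprime hco hr.one_lt
          have hb1 : b = (b ^ i) ^ u * ((b ^ r) ^ (i * u / r))⁻¹ := by
            rw [← pow_mul, ← pow_mul]
            conv_rhs => arg 1; rw [← Nat.mod_add_div (i * u) r, hu, pow_add, pow_one]
            rw [mul_inv_cancel_right]
          rw [hb1]
          exact mul_mem (pow_mem hbi u) (inv_mem (pow_mem hbr _))
      · intro hcB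
        exact hbB' (mem_sup_left hcB)
    have hlt : Nat.card B < Nat.card (B ⊔ zpowers c : Subgroup G) :=
      card_lt_of_lt le_sup_left fun h => hcB (h ▸ mem_sup_right (mem_zpowers c))
    refine (hlt.trans_le (hmax _ ⟨hB0.trans le_sup_left, sup_le hBK (zpowers_le.2 hcK), ?_⟩)).false
    intro hle
    have hxc : x ∈ F ⊓ centralizer ((B ⊔ zpowers c : Subgroup G) : Set G) := by
      refine mem_inf.2 ⟨(mem_inf.1 hx).1, ?_⟩
      have h : B ⊔ zpowers c ≤ centralizer {x} := sup_le
        (fun y hy => mem_centralizer_singleton_iff.2 ((mem_inf.1 hx).2 y hy))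
        (zpowers_le.2 (mem_centralizer_singleton_iff.2 hcx))
      exact fun y hy => mem_centralizer_singleton_iff.1 (h hy)
    exact (hF.mem_zpowers_iff.1 (hle hxc)).elim hx1 hxz
  obtain ⟨k, hk, hkB⟩ : ∃ k ∈ K, k ∉ B := by
    by_contra hno
    push Not at hno
    exact hBz fun f hf => hF.mem_zpowers_iff.2
      (hfull f (mem_inf.1 hf).1 fun k hk => (mem_inf.1 hf).2 k (hno k hk))
  by_cases hBC : B ≤ centralizer (F : Set G)
  · -- cyclic action
    obtain ⟨n, ρ, hρ, hz⟩ := exists_irreducible hF
    haveI := hρ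
    have hn : Even n := by
      by_contra hodd
      rw [Nat.not_even_iff_odd] at hodd
      obtain ⟨a, ha⟩ := hF.pgrp.exists_card_eq
      have h2 : 2 * (n * n) = 2 ^ a := by rw [← hF.card_eq hz, ha]
      obtain ⟨i, -, hi⟩ := (Nat.dvd_prime_pow Nat.prime_two).1
        (h2 ▸ Dvd.intro (2 * n) (by ring) : n ∣ 2 ^ a)
      obtain rfl : i = 0 := by
        by_contra h0
        rw [hi] at hodd
        exact Nat.not_even_iff_odd.2 hodd (even_two.pow_of_ne_zero h0)
      refine hne (eq_of_le_of_card_ge hF.zpowers_le ?_).ge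
      rw [hF.card_eq hz, hi, Nat.card_zpowers,
        orderOf_eq_prime (by rw [sq, hF.zz]) hF.z1]
      norm_num
    refine base hF hz hn hr2 k (hKF hk) (fun f hf => hact _ (hexp k hk) f hf) (fun f hf hkf => ?_)
      S hS hSF fun s hs => ?_
    · refine hfull f hf fun y hy => ?_
      have h : K ≤ centralizer {f} := by
        rw [← hyper k hk hkB]
        exact sup_le (fun b hb => mem_centralizer_singleton_iff.2 (hBC hb f hf).symm)
          (zpowers_le.2 (mem_centralizer_singleton_iff.2 (mul_inv_eq_iff_eq_mul.1 hkf)))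
      exact mem_centralizer_singleton_iff.1 (h hy)
    · have hmem : s * k * s⁻¹ ∈ B ⊔ zpowers k := by
        rw [hyper k hk hkB]; exact (mem_normalizer_iff.1 (hSK hs) k).1 hk
      obtain ⟨b, hb, x, hx, hbx⟩ := (Solvable.mem_sup_of_le_normalizer
        ((zpowers_le.2 hk).trans (hKB B hB0 hBK))).1 hmem
      obtain ⟨j, rfl⟩ : ∃ j : ℕ, k ^ j = x := mem_powers_iff_mem_zpowers.2 hx
      refine ⟨j, fun f hf => ?_⟩
      rw [← hbx]
      calc b * k ^ j * f * (b * k ^ j)⁻¹ = b * (k ^ j * f * (k ^ j)⁻¹) * b⁻¹ := by group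
        _ = _ := hact b (hBC hb) _ ((mem_normalizer_iff.1 (hKF (pow_mem hk j)) f).1 hf)
  -- the orbit of components
  have hMne : M ≠ F := fun h => hBC fun b hb f hf => ((mem_inf.1 (h.ge hf)).2 b hb).symm
  let X : S → Subgroup G := fun s => cj (s : G) M
  have hX : ∀ s : S, X s = F ⊓ centralizer (cj (s : G) B : Set G) := fun s =>
    cj_inf_centralizer (hSF s.2)
  have hcjK : ∀ s : S, cj (s : G) B ≤ K := fun s x hx => by
    have h := (mem_normalizer_iff.1 (hSK s.2) _).1 (hBK (mem_cj.1 hx))
    simpa [mul_assoc] using h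
  have hcj0 : ∀ s : S, K₀ ≤ cj (s : G) B := fun s x hx => by
    obtain ⟨hxK, hxC⟩ := mem_inf.1 hx
    refine mem_cj.2 (hB0 (mem_inf.2 ⟨?_, ?_⟩))
    · have := (mem_normalizer_iff.1 (inv_mem (hSK s.2)) x).1 hxK
      rwa [inv_inv] at this
    · intro f hf
      have h := hxC ((s : G) * f * (s : G)⁻¹) ((mem_normalizer_iff.1 (hSF s.2) f).1 hf)
      calc f * ((s : G)⁻¹ * x * s) = (s : G)⁻¹ * (((s : G) * f * (s : G)⁻¹) * x) * s := by group
        _ = (s : G)⁻¹ * (x * ((s : G) * f * (s : G)⁻¹)) * s := by rw [h]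
        _ = _ := by group
  have hXN : ∀ s : S, Nice z (X s) ∧ X s ≤ F := fun s => by
    rw [hX]
    exact ⟨centralizer_nice hF ((hcjK s).trans hKF) (hK.of_dvd_nat (card_dvd_of_le (hcjK s))),
      inf_le_left⟩
  have hXX : ∀ s t : S, cj (s : G) B ≠ cj (t : G) B →
      ∀ a ∈ X s, ∀ b ∈ X t, Commute a b := by
    intro s t hne' a ha b hb
    rw [hX] at ha hb
    obtain ⟨y, hy, hys⟩ : ∃ y ∈ cj (t : G) B, y ∉ cj (s : G) B := by
      by_contra hno
      push Not at hno
      refine hne' (eq_of_le_of_card_ge hno ?_).symm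
      rw [cj, cj, Subgroup.card_map_of_injective (MulAut.conj (s : G)).injective,
        Subgroup.card_map_of_injective (MulAut.conj (t : G)).injective]
    have hy' : (s : G)⁻¹ * y * s ∈ K := by
      have := (mem_normalizer_iff.1 (inv_mem (hSK s.2)) y).1 (hcjK t hy)
      rwa [inv_inv] at this
    have hgen := hyper _ hy' fun h => hys (mem_cj.2 h)
    have hsup : cj (t : G) B ⊔ cj (s : G) B = K := by
      refine le_antisymm (sup_le (hcjK t) (hcjK s)) fun x hx => ?_
      have hx' : (s : G)⁻¹ * x * s ∈ K := by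
        have := (mem_normalizer_iff.1 (inv_mem (hSK s.2)) x).1 hx
        rwa [inv_inv] at this
      rw [← hgen] at hx'
      have h2 : x ∈ cj (s : G) (B ⊔ zpowers ((s : G)⁻¹ * y * s)) := mem_cj.2 hx'
      rw [cj_sup] at h2
      refine (sup_le le_sup_right ?_ : cj (s : G) B ⊔ cj (s : G) _ ≤ _) h2
      rintro w hw
      obtain ⟨j, hj⟩ := mem_zpowers_iff.1 (mem_cj.1 hw)
      have : w = y ^ j := by
        have h3 : ((s : G)⁻¹ * y * s) ^ j = (s : G)⁻¹ * y ^ j * s := by
          simpa using map_zpow (MulAut.conj (s : G)⁻¹) y j |>.symm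
        rw [h3] at hj
        simpa using hj.symm
      rw [this]
      exact mem_sup_left (zpow_mem hy j)
    exact components_commute hF hsup (hK.of_dvd_nat (card_dvd_of_le (hcjK t)))
      ((hcjK t).trans hKF) ((hcjK t).trans (hKB _ (hcj0 s) (hcjK s))) hfull a ha b hb
  have hXeq : ∀ s t : S, X s = X t ∨ ∀ a ∈ X s, ∀ b ∈ X t, Commute a b := fun s t => by
    by_cases h : cj (s : G) B = cj (t : G) B
    · exact Or.inl (by rw [hX, hX, h])
    · exact Or.inr (hXX s t h)
  haveI : Fintype S := Fintype.ofFinite S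
  set W := zpowers z ⊔ Finset.univ.sup X with hWdef
  obtain ⟨hW, hWF⟩ := nice_finset hF X hXN hXeq Finset.univ
  have hXW : ∀ s, X s ≤ W := fun s => (Finset.le_sup (Finset.mem_univ s)).trans le_sup_right
  have hMW : M ≤ W := by
    have := hXW 1
    simpa [X, cj_one] using this
  by_cases hWne : W ≠ F
  · refine split_rec ih hm hF hS hSF hKF hSK hK hsol hfull hW hWF hWne
      (fun h => hBz (hMW.trans h)) (fun a ha => mem_normalizer_of_cj_le ?_)
      fun a ha => mem_normalizer_of_cj_le ?_
    · refine map_le_iff_le_comap.2 (sup_le ?_ (Finset.sup_le fun s _ => ?_))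
      · exact map_le_iff_le_comap.1 ((cj_eq_self (show a ∈ normalizer (zpowers z : Set G) from
          mem_normalizer_of_cj_le fun x hx => by
            rcases hF.mem_zpowers_iff.1 (mem_cj.1 hx) with h | h
            · have : x = 1 := by
                calc x = a * (a⁻¹ * x * a) * a⁻¹ := by group
                  _ = 1 := by rw [h]; group
              rw [this]; exact one_mem _
            · have : x = a * z * a⁻¹ := by rw [← h]; group
              rw [this, mem_center_iff.1 hF.zc a, mul_inv_cancel_right]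
              exact mem_zpowers z)).le.trans le_sup_left)
      · refine map_le_iff_le_comap.1 ((le_of_eq ?_).trans (hXW (⟨a, ha⟩ * s)))
        exact cj_cj a (s : G) M
    · refine map_le_iff_le_comap.2 (sup_le ?_ (Finset.sup_le fun s _ => ?_))
      · exact map_le_iff_le_comap.1 ((cj_eq_self (show a ∈ normalizer (zpowers z : Set G) from
          mem_normalizer_of_cj_le fun x hx => by
            rcases hF.mem_zpowers_iff.1 (mem_cj.1 hx) with h | h
            · have : x = 1 := by
                calc x = a * (a⁻¹ * x * a) * a⁻¹ := by group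
                  _ = 1 := by rw [h]; group
              rw [this]; exact one_mem _
            · have : x = a * z * a⁻¹ := by rw [← h]; group
              rw [this, mem_center_iff.1 hF.zc a, mul_inv_cancel_right]
              exact mem_zpowers z)).le.trans le_sup_left)
      · refine map_le_iff_le_comap.1 (le_trans (le_of_eq ?_) (hXW s))
        show cj a (X s) = X s
        refine cj_eq_self ?_
        rw [hX]
        exact inf_centralizer_invariant (hKF ha) (hKB _ (hcj0 s) (hcjK s) ha)
  push Not at hWne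
  -- a maximal subgroup above the stabiliser
  let St : Subgroup S :=
    { carrier := {s | cj (s : G) B = B}
      one_mem' := cj_one B
      mul_mem' := fun {s t} (hs : cj (s : G) B = B) (ht : cj (t : G) B = B) => by
        show cj ((s : G) * t) B = B
        rw [← cj_cj, ht, hs]
      inv_mem' := fun {s} (hs : cj (s : G) B = B) => by
        show cj (s : G)⁻¹ B = B
        conv_lhs => rw [← hs, cj_cj, inv_mul_cancel, cj_one] }
  have hStne : St ≠ ⊤ := by
    intro hall
    refine hMne (le_antisymm inf_le_left ?_)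
    rw [← hWne]
    refine sup_le (Subgroup.zpowers_le.2 hM.zF) (Finset.sup_le fun s _ => ?_)
    rw [hX, show cj (s : G) B = B from (hall ▸ mem_top s : s ∈ St)]
  obtain ⟨Tc, hTc, hStT⟩ := (eq_top_or_exists_le_coatom St).resolve_left hStne
  haveI : Group.IsNilpotent S := hS.isNilpotent
  haveI : Tc.Normal := Subgroup.NormalizerCondition.normal_of_coatom Tc
    Group.normalizerCondition_of_isNilpotent hTc
  obtain ⟨g, hg⟩ : ∃ g : S, g ∉ Tc := by
    by_contra hno
    push Not at hno
    exact hTc.1 ((eq_top_iff' Tc).2 hno)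
  have htop : ∀ y : S, y ∉ Tc → Tc ⊔ zpowers y = ⊤ := fun y hy =>
    hTc.2 _ (lt_of_le_of_ne le_sup_left fun h => hy (h ▸ mem_sup_right (mem_zpowers y)))
  have hdec : ∀ y : S, ∀ x : S, y ∉ Tc → ∃ t ∈ Tc, ∃ j : ℤ, x = t * y ^ j := by
    intro y x hy
    obtain ⟨t, ht, w, hw, htw⟩ := (Solvable.mem_sup_of_le_normalizer
      (N := Tc) (H := zpowers y) (by rw [normalizer_eq_top]; exact le_top)).1
      (show x ∈ Tc ⊔ zpowers y by rw [htop y hy]; exact mem_top x)
    obtain ⟨j, rfl⟩ := mem_zpowers_iff.1 hw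
    exact ⟨t, ht, j, htw.symm⟩
  have hg2 : g * g ∈ Tc := by
    by_contra h2
    obtain ⟨t, ht, j, hj⟩ := hdec (g * g) g h2
    obtain ⟨e, he⟩ := hS g
    have h1 : g ^ (1 - 2 * j) ∈ Tc := by
      have : g ^ (1 - 2 * j) = t := by
        rw [sub_eq_add_neg, zpow_add, zpow_one, zpow_neg, zpow_mul, zpow_ofNat, sq]
        nth_rw 1 [hj]
        rw [mul_inv_cancel_right]
      rwa [this]
    have hco : IsCoprime (1 - 2 * j) ((2 : ℤ) ^ e) := by
      refine IsCoprime.pow_right ⟨1, j, by ring⟩
    obtain ⟨u, v, huv⟩ := hco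
    apply hg
    have : g = (g ^ (1 - 2 * j)) ^ u * (g ^ ((2 : ℤ) ^ e)) ^ v := by
      rw [← zpow_mul, ← zpow_mul, ← zpow_add, mul_comm _ u, mul_comm _ v, huv, zpow_one]
    rw [this]
    refine mul_mem (zpow_mem h1 u) (zpow_mem ?_ v)
    rw [show ((2 : ℤ) ^ e) = ((2 ^ e : ℕ) : ℤ) by push_cast; rfl, zpow_natCast, he]
    exact one_mem _
  let T : Subgroup G := Tc.map S.subtype
  have hTS : T ≤ S := map_subtype_le Tc
  have hTmem : ∀ y : S, (y : G) ∈ T ↔ y ∈ Tc := fun y =>
    mem_map_iff_mem S.subtype_injective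
  have hgTn : (g : G) ∈ normalizer (T : Set G) := by
    refine mem_normalizer_of_cj_le fun x hx => ?_
    obtain ⟨t, ht, htx⟩ := mem_map.1 (mem_cj.1 hx)
    refine mem_map.2 ⟨g * t * g⁻¹, Subgroup.Normal.conj_mem inferInstance t ht g, ?_⟩
    change (t : G) = _ at htx
    show (g : G) * t * (g : G)⁻¹ = x
    rw [htx]; group
  have hTsup : T ⊔ zpowers (g : G) = S := by
    have h := congrArg (Subgroup.map S.subtype) (htop g hg)
    rwa [Subgroup.map_sup, MonoidHom.map_zpowers, ← MonoidHom.range_eq_map, range_subtype] at h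
  haveI : Fintype Tc := Fintype.ofFinite Tc
  let XT : Tc → Subgroup G := fun t => X t
  obtain ⟨hC, hCF⟩ := nice_finset hF XT (fun t => hXN t) (fun t t' => hXeq t t') Finset.univ
  set C := zpowers z ⊔ Finset.univ.sup XT with hCdef
  have hXC : ∀ t : S, t ∈ Tc → X t ≤ C := fun t ht =>
    (Finset.le_sup (f := XT) (Finset.mem_univ (⟨t, ht⟩ : Tc))).trans le_sup_right
  have hcjz : ∀ a : G, cj a (zpowers z) = zpowers z := fun a => cj_eq_self (by
    refine mem_normalizer_of_cj_le fun x hx => ?_
    rcases hF.mem_zpowers_iff.1 (mem_cj.1 hx) with h | h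
    · have : x = 1 := by
        calc x = a * (a⁻¹ * x * a) * a⁻¹ := by group
          _ = 1 := by rw [h]; group
      rw [this]; exact one_mem _
    · have : x = a * z * a⁻¹ := by rw [← h]; group
      rw [this, mem_center_iff.1 hF.zc a, mul_inv_cancel_right]
      exact mem_zpowers z)
  have hTC : T ≤ normalizer (C : Set G) := by
    rintro _ ⟨a, ha, rfl⟩
    refine mem_normalizer_of_cj_le (map_le_iff_le_comap.2 (sup_le ?_ (Finset.sup_le fun t _ => ?_)))
    · exact map_le_iff_le_comap.1 ((hcjz _).le.trans le_sup_left)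
    · refine map_le_iff_le_comap.1 (le_trans (le_of_eq ?_) (hXC (a * t) (mul_mem ha t.2)))
      exact cj_cj (a : G) ((t : S) : G) M
  have hXgt : ∀ t : S, t ∈ Tc → X (g * t) ≤ cj (g : G) C := fun t ht => by
    refine le_trans (le_of_eq ?_) (cj_mono (hXC t ht))
    exact (cj_cj (g : G) (t : G) M).symm
  have hsup : C ⊔ cj (g : G) C = F := by
    refine le_antisymm (sup_le hCF ?_) ?_
    · exact (cj_mono hCF).trans (cj_eq_self (hSF g.2)).le
    · rw [← hWne]
      refine sup_le (le_sup_left.trans le_sup_left) (Finset.sup_le fun s _ => ?_)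
      by_cases hs : s ∈ Tc
      · exact (hXC s hs).trans le_sup_left
      · obtain ⟨t, ht, j, rfl⟩ := hdec g s hg
        rcases Int.even_or_odd j with ⟨i, rfl⟩ | ⟨i, rfl⟩
        · exact absurd (mul_mem ht (by
            rw [← two_mul, zpow_mul, zpow_ofNat, sq]; exact zpow_mem hg2 i)) hs
        · refine le_trans ?_ (le_sup_right (a := C))
          have hmem : g⁻¹ * (t * g ^ (2 * i + 1)) ∈ Tc := by
            have : g⁻¹ * (t * g ^ (2 * i + 1)) = (g⁻¹ * t * g⁻¹⁻¹) * (g * g) ^ i := by
              rw [inv_inv, add_comm, zpow_add, zpow_one, zpow_mul, zpow_ofNat, sq]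
              group
            rw [this]
            exact mul_mem (Subgroup.Normal.conj_mem inferInstance t ht _) (zpow_mem hg2 i)
          have := hXgt _ hmem
          rwa [mul_inv_cancel_left] at this
  have hCD : ∀ c ∈ C, ∀ d ∈ cj (g : G) C, Commute c d := by
    have hzc : ∀ H : Subgroup G, zpowers z ≤ centralizer (H : Set G) := fun H =>
      Subgroup.zpowers_le.2 fun h _ => mem_center_iff.1 hF.zc h
    have h1 : C ≤ centralizer ((cj (g : G) C : Subgroup G) : Set G) := by
      refine sup_le (hzc _) (Finset.sup_le fun t _ => ?_)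
      rw [le_centralizer_iff]
      refine map_le_iff_le_comap.2 (sup_le ?_ (Finset.sup_le fun t' _ => ?_))
      · exact map_le_iff_le_comap.1 ((hcjz _).le.trans (hzc _))
      · refine map_le_iff_le_comap.1 ?_
        intro d hd
        have hd' : d ∈ X (g * (t' : S)) := by
          show d ∈ cj ((g : G) * ((t' : S) : G)) M
          rw [← cj_cj]; exact hd
        intro c hc
        refine (hXX (t : S) (g * (t' : S)) ?_ c hc d hd').eq
        intro heq
        apply hg
        have hmem : (t : S)⁻¹ * (g * (t' : S)) ∈ St := by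
          show cj ((((t : S) : G))⁻¹ * ((g : G) * ((t' : S) : G))) B = B
          rw [← cj_cj, show cj ((g : G) * ((t' : S) : G)) B = cj ((t : S) : G) B from heq.symm,
            cj_cj, inv_mul_cancel, cj_one]
        have : g = (t : S) * ((t : S)⁻¹ * (g * (t' : S))) * (t' : S)⁻¹ := by group
        rw [this]
        exact mul_mem (mul_mem t.2 (hStT hmem)) (inv_mem t'.2)
    exact fun c hc d hd => (h1 hc d hd).symm
  have hCne : C ≠ F := by
    intro h
    refine hBz ((le_of_eq (cj_one M).symm).trans ((hXC 1 (one_mem _)).trans fun x hx => ?_))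
    have hgx : (g : G) * x * (g : G)⁻¹ ∈ cj (g : G) C := mem_cj.2 (by simpa [mul_assoc] using hx)
    have hgxF : (g : G) * x * (g : G)⁻¹ ∈ F :=
      (mem_normalizer_iff.1 (hSF g.2) x).1 (hCF hx)
    rcases hF.ctr _ hgxF (fun y hy => (hCD y (h.ge hy) _ hgx).eq.symm) with h1 | h1
    · have : x = 1 := by
        calc x = (g : G)⁻¹ * ((g : G) * x * (g : G)⁻¹) * g := by group
          _ = 1 := by rw [h1]; group
      rw [this]; exact one_mem _
    · have : x = z := by
        have h2 := congrArg (fun y => (g : G)⁻¹ * y * g) h1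
        simp only [mul_assoc, inv_mul_cancel_left, inv_mul_cancel, mul_one] at h2
        rw [h2, ← mem_center_iff.1 hF.zc (g : G), inv_mul_cancel_left]
      rw [this]; exact mem_zpowers z
  refine induced hF hCF hTS hSF hTC g g.2 hgTn ((hTmem (g * g)).2 hg2)
    (fun h => hg ((hTmem g).1 h)) hTsup hCD hsup
    (ih C K T (by have := card_lt_of_lt hCF hCne; omega) hC (hS.to_le hTS) hTC ?_
      (hTS.trans hSK) hK hsol fun f hf => hfull f (hCF hf))
  intro a ha
  refine mem_normalizer_of_cj_le (map_le_iff_le_comap.2 (sup_le ?_ (Finset.sup_le fun t _ => ?_)))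
  · exact map_le_iff_le_comap.1 ((hcjz _).le.trans le_sup_left)
  · refine map_le_iff_le_comap.1 (le_trans (le_of_eq ?_) (hXC t t.2))
    show cj a (X t) = X t
    refine cj_eq_self ?_
    rw [hX]
    exact inf_centralizer_invariant (hKF ha) (hKB _ (hcj0 t) (hcjK t) ha)

/-- Every such `2`-group has a lift. -/
theorem hasLift_main : ∀ (m : ℕ), Below z m := by
  intro m
  induction m with
  | zero => intro F K S h; omega
  | succ m ih =>
    intro F K S hlt hF hS hSF hKF hSK hK hsol hfull
    classical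
    have hm : Nat.card F + Nat.card K ≤ m := by omega
    by_cases hne : F ≤ zpowers z
    · exact trivial_case hF hne
    by_cases hA : ∃ A : Subgroup G, A ≤ K ∧ A ≠ K ∧ K ≤ normalizer (A : Set G) ∧
        S ≤ normalizer (A : Set G) ∧ ¬ A ≤ centralizer (F : Set G)
    · obtain ⟨A, hAK, hAne, hKA, hSA, hAC⟩ := hA
      have hAodd : Odd (Nat.card A) := hK.of_dvd_nat (card_dvd_of_le hAK)
      set W := F ⊓ centralizer (A : Set G) with hWdef
      by_cases hWz : W ≤ zpowers z
      · exact ih F A S (by have := card_lt_of_lt hAK hAne; omega) hF hS hSF (hAK.trans hKF) hSA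
          hAodd (solvable_of_le hAK hsol)
          fun f hf h => hF.mem_zpowers_iff.1 (hWz (mem_inf.2 ⟨hf, fun a ha => h a ha⟩))
      · exact split_rec ih hm hF hS hSF hKF hSK hK hsol hfull
          (centralizer_nice hF (hAK.trans hKF) hAodd) inf_le_left
          (fun h => hAC fun a ha f hf => ((mem_inf.1 (h.ge hf)).2 a ha).symm) hWz
          (fun s hs => inf_centralizer_invariant (hSF hs) (hSA hs))
          (fun k hk => inf_centralizer_invariant (hKF hk) (hKA hk))
    push Not at hA
    have hKne : ¬ K ≤ centralizer (F : Set G) := fun h => hne fun f hf =>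
      hF.mem_zpowers_iff.2 (hfull f hf fun k hk => (h hk f hf).symm)
    have hcomm : ∀ a ∈ K, ∀ b ∈ K, ⁅a, b⁆ ∈ centralizer (F : Set G) := by
      intro a ha b hb
      refine hA ⁅K, K⁆ ?_ ?_ ?_ ?_ (commutator_mem_commutator ha hb)
      · rw [← map_subtype_commutator]; exact map_subtype_le _
      · intro h
        rw [← map_subtype_commutator] at h
        haveI : Nontrivial K := (nontrivial_iff_ne_bot K).2 fun h0 => hKne (h0 ▸ bot_le)
        haveI := hsol
        refine (Group.IsSolvable.commutator_lt_top_of_nontrivial K).ne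
          (Subgroup.map_injective K.subtype_injective ?_)
        rw [h, ← MonoidHom.range_eq_map, range_subtype]
      · intro k hk
        refine mem_normalizer_of_cj_le (le_of_eq ?_)
        rw [cj, map_commutator]
        exact congrArg₂ _ (cj_eq_self (le_normalizer hk)) (cj_eq_self (le_normalizer hk))
      · intro k hk
        refine mem_normalizer_of_cj_le (le_of_eq ?_)
        rw [cj, map_commutator]
        exact congrArg₂ _ (cj_eq_self (hSK hk)) (cj_eq_self (hSK hk))
    let ψ : K →* MulAut F := (normalizerMonoidHom F).comp (inclusion hKF)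
    have hψ : ∀ k : K, ψ k = 1 ↔ (k : G) ∈ centralizer (F : Set G) := by
      intro k
      constructor
      · intro h f hf
        have h2 := DFunLike.congr_fun h (⟨f, hf⟩ : F)
        have h1 : (k : G) * f * (k : G)⁻¹ = f := congrArg Subtype.val h2
        exact (mul_inv_eq_iff_eq_mul.1 h1).symm
      · intro h
        refine MulEquiv.ext fun f => Subtype.ext ?_
        show (k : G) * f * (k : G)⁻¹ = f
        rw [← h f f.2, mul_inv_cancel_right]
    have hψc : ∀ a b : K, Commute (ψ a) (ψ b) := fun a b => by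
      have h : ψ ⁅a, b⁆ = 1 := (hψ _).2 (by
        show ((⁅a, b⁆ : K) : G) ∈ centralizer (F : Set G)
        rw [show ((⁅a, b⁆ : K) : G) = ⁅(a : G), (b : G)⁆ by simp [commutatorElement_def]]
        exact hcomm a a.2 b b.2)
      rw [map_commutatorElement] at h
      exact commutatorElement_eq_one_iff_commute.1 h
    obtain ⟨k, hk, hkC⟩ := SetLike.not_le_iff_exists.1 hKne
    have hex : ∃ d : ℕ, 0 < d ∧ ψ ⟨k, hk⟩ ^ d = 1 :=
      ⟨orderOf (ψ ⟨k, hk⟩), orderOf_pos _, pow_orderOf_eq_one _⟩
    have hd1 : orderOf (ψ ⟨k, hk⟩) ≠ 1 := fun h => hkC ((hψ ⟨k, hk⟩).1 (orderOf_eq_one_iff.1 h))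
    obtain ⟨r, hr, hrd⟩ := Nat.exists_prime_and_dvd hd1
    haveI : Fact r.Prime := ⟨hr⟩
    have hr2 : r ≠ 2 := by
      intro h
      subst h
      exact Nat.not_even_iff_odd.2 hK (even_iff_two_dvd.2
        (hrd.trans ((orderOf_map_dvd ψ _).trans (orderOf_dvd_natCard _))))
    obtain ⟨a, ha1, har⟩ : ∃ a : K, ψ a ≠ 1 ∧ ψ a ^ r = 1 := by
      refine ⟨⟨k, hk⟩ ^ (orderOf (ψ ⟨k, hk⟩) / r), fun h => ?_, ?_⟩
      · rw [map_pow, ← orderOf_dvd_iff_pow_eq_one] at h
        have h1 := Nat.le_of_dvd (Nat.div_pos (Nat.le_of_dvd (orderOf_pos _) hrd) hr.pos) h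
        exact absurd h1 (not_le.2 (Nat.div_lt_self (orderOf_pos _) hr.one_lt))
      · rw [map_pow, ← pow_mul, Nat.div_mul_cancel hrd, pow_orderOf_eq_one]
    have hexp : ∀ k ∈ K, k ^ r ∈ centralizer (F : Set G) := by
      set A := closure {x : G | x ∈ K ∧ x ^ r ∈ centralizer (F : Set G)} with hAdef
      have hAK : A ≤ K := (closure_le K).2 fun x hx => hx.1
      have hAinv : ∀ s ∈ normalizer (K : Set G) ⊓ normalizer (F : Set G),
          s ∈ normalizer (A : Set G) := by
        intro s hs
        refine mem_normalizer_of_cj_le ?_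
        rw [cj, hAdef, MonoidHom.map_closure, closure_le]
        rintro _ ⟨x, ⟨hxK, hxr⟩, rfl⟩
        refine subset_closure ⟨(mem_normalizer_iff.1 (mem_inf.1 hs).1 x).1 hxK, ?_⟩
        show (MulAut.conj s x) ^ r ∈ centralizer (F : Set G)
        rw [← map_pow, MulAut.conj_apply]
        intro f hf
        have hf' : s⁻¹ * f * s ∈ F := by
          have := (mem_normalizer_iff.1 (inv_mem (mem_inf.1 hs).2) f).1 hf
          rwa [inv_inv] at this
        calc f * (s * x ^ r * s⁻¹) = s * ((s⁻¹ * f * s) * x ^ r) * s⁻¹ := by group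
          _ = s * (x ^ r * (s⁻¹ * f * s)) * s⁻¹ := by rw [hxr _ hf']
          _ = _ := by group
      have hAeq : A = K := by
        by_contra hAne
        refine ha1 ((hψ a).2 (hA A hAK hAne (fun s hs => hAinv s ⟨le_normalizer hs, hKF hs⟩)
          (fun s hs => hAinv s ⟨hSK hs, hSF hs⟩) (subset_closure ⟨a.2, ?_⟩)))
        exact (hψ (a ^ r)).1 (by rw [map_pow, har])
      intro k hk
      have hk' : k ∈ A := hAeq.ge hk
      clear hkC hex hd1 hrd
      induction hk' using closure_induction with
      | mem x hx => exact hx.2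
      | one => rw [one_pow]; exact one_mem _
      | mul x y hx hy ihx ihy =>
        refine (hψ ((⟨x, hAK hx⟩ * ⟨y, hAK hy⟩ : K) ^ r)).1 ?_
        rw [map_pow, map_mul, (hψc _ _).mul_pow, ← map_pow, ← map_pow,
          (hψ (⟨x, hAK hx⟩ ^ r)).2 (ihx (hAK hx)), (hψ (⟨y, hAK hy⟩ ^ r)).2 (ihy (hAK hy)), one_mul]
      | inv x hx ihx => rw [inv_pow]; exact inv_mem (ihx (inv_mem_iff.1 hk))
    exact abelian_case ih hm hF hS hSF hKF hSK hK hsol hfull hne hr2 hcomm hexp

/-- A `2`-group normalising a fully acting odd solvable group lifts. -/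
theorem hasLift {F K S : Subgroup G} (hF : Nice z F) (hS : IsPGroup 2 S)
    (hSF : S ≤ normalizer (F : Set G)) (hKF : K ≤ normalizer (F : Set G))
    (hSK : S ≤ normalizer (K : Set G)) (hK : Odd (Nat.card K)) (hsol : Group.IsSolvable K)
    (hfull : Full z F K) : HasLift z F S :=
  hasLift_main (Nat.card F + Nat.card K + 1) F K S (by omega) hF hS hSF hKF hSK hK hsol hfull

end CfsgLib.ExtraExt
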