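import Cfsg.Agent.Lib.ExtraExt.Induct
import Cfsg.Agent.Lib.CharDeep.Extend
import Cfsg.Prelude.Def_Transfer

/-!
The faithful character of an extraspecial `2`-group extends over a complement with an odd solvable
normal subgroup that acts fully.
-/

set_option autoImplicit false
set_option linter.style.haveILetI false
set_option maxHeartbeats 1600000

open Module Subgroup
open scoped commutatorElement

namespace CfsgLib.ExtraExt

universe u

variable {G : Type u} [Group G] [Finite G]

theorem irreducible_of_restrict {H : Type u} [Group H] {G' : Type u} [Group G'] {V : Type}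
    [AddCommGroup V] [Module ℂ V] (σ : Representation ℂ G' V) (ρ : Representation ℂ H V)
    [ρ.IsIrreducible] (i : H → G') (h : ∀ x, σ (i x) = ρ x) : σ.IsIrreducible := by
  have := CharKernel.nontrivial_of_irreducible ρ
  refine CharKernel.isIrreducible_of_forall _ fun W hW => CharKernel.eq_bot_or_eq_top ρ W ?_
  intro x v hv
  rw [← h x]
  exact hW (i x) v hv

/-- The extension theorem, given solvability of the odd subgroup. -/
theorem extends_of_solvable (E H : Subgroup G) [hEn : E.Normal] (hE : Cfsg.IsExtraspecial 2 E)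
    (hEH : E ⊓ H = ⊥) (hEHtop : E ⊔ H = ⊤) (K : Subgroup G) (hKH : K ≤ H)
    (hKn : ∀ h ∈ H, ∀ k ∈ K, h * k * h⁻¹ ∈ K) (hKodd : Odd (Nat.card K))
    (hsol : Group.IsSolvable K) (hEK : ⁅E, K⁆ = E) (θ : Cfsg.IrrCharacter E)
    (hθ : ∀ e : E, (θ : E → ℂ) e = (θ : E → ℂ) 1 → e = 1) :
    ∃ χ : Cfsg.IrrCharacter G, ∀ e : E, (χ : G → ℂ) e = (θ : E → ℂ) e := by
  classical
  obtain ⟨⟨hEp, -, hEcomm⟩, hEcard⟩ := hE
  -- the centre
  obtain ⟨⟨z₀, hz₀⟩, hz1, hzall⟩ : ∃ c : Subgroup.center E, c ≠ 1 ∧
      ∀ x : Subgroup.center E, x = 1 ∨ x = c := by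
    haveI : Fintype (Subgroup.center E) := Fintype.ofFinite _
    obtain ⟨c, hc⟩ := Fintype.exists_ne_of_one_lt_card
      (by rw [← Nat.card_eq_fintype_card, hEcard]; norm_num) (1 : Subgroup.center E)
    refine ⟨c, hc, fun x => ?_⟩
    by_contra hx
    push Not at hx
    have h3 : ({1, c, x} : Finset (Subgroup.center E)).card ≤ 2 := by
      rw [← hEcard, Nat.card_eq_fintype_card]
      exact Finset.card_le_univ _
    rw [Finset.card_eq_three.2 ⟨1, c, x, hc.symm, hx.1.symm, hx.2.symm, rfl⟩] at h3
    omega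
  have hcen : ∀ e : E, e ∈ Subgroup.center E → e = 1 ∨ e = z₀ := fun e he =>
    (hzall ⟨e, he⟩).imp (congrArg Subtype.val) (congrArg Subtype.val)
  have hz01 : z₀ ≠ 1 := fun h => hz1 (Subtype.ext h)
  have hzz : z₀ * z₀ = 1 := by
    rcases hcen _ (mul_mem hz₀ hz₀) with h | h
    · exact h
    · exact absurd (mul_eq_left.1 h) hz01
  set z : G := (z₀ : G) with hzdef
  have hzc : z ∈ Subgroup.center G := by
    rw [Subgroup.mem_center_iff]
    intro g
    have hmem : (⟨g * z * g⁻¹, hEn.conj_mem _ z₀.2 g⟩ : E) ∈ Subgroup.center E := by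
      rw [Subgroup.mem_center_iff]
      intro y
      have hy := congrArg Subtype.val
        (Subgroup.mem_center_iff.1 hz₀ ⟨g⁻¹ * y * g⁻¹⁻¹, hEn.conj_mem _ y.2 g⁻¹⟩)
      refine Subtype.ext ?_
      show (y : G) * (g * z * g⁻¹) = g * z * g⁻¹ * y
      calc (y : G) * (g * z * g⁻¹) = g * ((g⁻¹ * y * g⁻¹⁻¹) * z) * g⁻¹ := by group
        _ = g * (z * (g⁻¹ * y * g⁻¹⁻¹)) * g⁻¹ := congrArg (fun t => g * t * g⁻¹) hy
        _ = _ := by group
    rcases hcen _ hmem with h | h
    · exact absurd (Subtype.ext (show z = 1 by simpa using congrArg Subtype.val h)) hz01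
    · exact mul_inv_eq_iff_eq_mul.1 (congrArg Subtype.val h)
  have hnE : ∀ g : G, g ∈ normalizer (E : Set G) := fun g => by
    rw [normalizer_eq_top]; exact mem_top g
  have hF : Nice z E :=
    { zc := hzc
      z1 := fun h => hz01 (Subtype.ext h)
      zz := congrArg Subtype.val hzz
      zF := z₀.2
      pgrp := hEp
      comm := fun x hx y hy => by
        have h : ⁅(⟨x, hx⟩ : E), (⟨y, hy⟩ : E)⁆ ∈ Subgroup.center E :=
          hEcomm ▸ commutator_mem_commutator (mem_top _) (mem_top _)
        rcases hcen _ h with h | h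
        · left; simpa [commutatorElement_def] using congrArg Subtype.val h
        · right; simpa [commutatorElement_def] using congrArg Subtype.val h
      ctr := fun x hx hc => by
        rcases hcen ⟨x, hx⟩ (Subgroup.mem_center_iff.2 fun y =>
          Subtype.ext (hc y y.2).symm) with h | h
        · exact Or.inl (congrArg Subtype.val h)
        · exact Or.inr (congrArg Subtype.val h) }
  have hfull : Full z E K := by
    intro f hf hfix
    refine hF.ctr f hf fun y hy => ?_
    have h := hF.commute_commutator (A := K) le_rfl hf hfix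
    rw [hEK] at h
    exact (mem_centralizer_singleton_iff.1 (h hy)).symm
  obtain ⟨θf, d, ρ, hρ, hθρ⟩ := θ
  simp only at hθ ⊢
  subst hθρ
  haveI := hρ
  have hzρ : ρ hF.zel = -1 := by
    obtain ⟨c, hc⟩ := Char.exists_scalar_of_commute ρ (ρ hF.zel) fun g => by
      rw [← map_mul, ← map_mul]
      exact congrArg ρ (Subtype.ext (Subgroup.mem_center_iff.1 hzc g).symm)
    haveI : Nontrivial (Fin d → ℂ) :=
      Module.nontrivial_of_finrank_pos (Char.finrank_pos_of_irreducible ρ)
    have hsq : c * c = 1 := by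
      have h1 : ρ hF.zel * ρ hF.zel = 1 := by
        rw [← map_mul, show hF.zel * hF.zel = 1 from Subtype.ext hF.zz, map_one]
      rw [hc, smul_mul_smul_comm, mul_one] at h1
      exact smul_left_injective ℂ (one_ne_zero (α := Module.End ℂ (Fin d → ℂ)))
        (h1.trans (one_smul ℂ _).symm :
          (c * c) • (1 : Module.End ℂ (Fin d → ℂ)) = (1 : ℂ) • 1)
    rcases mul_self_eq_one_iff.1 hsq with h | h
    · exfalso
      refine hF.zel_ne (hθ hF.zel ?_)
      show LinearMap.trace ℂ _ (ρ hF.zel) = LinearMap.trace ℂ _ (ρ 1)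
      rw [hc, h, one_smul, map_one ρ]
    · rw [hc, h]; exact LinearMap.ext fun v => by simp
  have hinv : ∀ (g : G) (e : E), ρ.character ⟨g * e * g⁻¹, hEn.conj_mem (e : G) e.2 g⟩ =
      ρ.character e := by
    intro g e
    have hgz : g * z * g⁻¹ = z := by rw [Subgroup.mem_center_iff.1 hzc g, mul_inv_cancel_right]
    by_cases h1 : e = 1
    · subst h1; congr 1; exact Subtype.ext (by simp)
    by_cases h2 : e = hF.zel
    · subst h2; congr 1; exact Subtype.ext hgz
    rw [hF.char_zero hzρ h1 h2, hF.char_zero hzρ]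
    · intro h
      refine h1 (Subtype.ext ?_)
      have h' : g * e * g⁻¹ = 1 := congrArg Subtype.val h
      calc (e : G) = g⁻¹ * (g * e * g⁻¹) * g := by group
        _ = 1 := by rw [h']; group
    · intro h
      refine h2 (Subtype.ext ?_)
      have h' : g * e * g⁻¹ = z := congrArg Subtype.val h
      show (e : G) = z
      exact mul_right_cancel (b := g⁻¹) (mul_left_cancel (a := g) (by
        rw [← mul_assoc, ← mul_assoc, h', hgz]))
  have hd : d ∣ Nat.card E := Dvd.intro (2 * d) (by rw [hF.card_eq hzρ]; ring)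
  obtain ⟨χ, hχ, hχn⟩ := CharDeep.Extend.extends_of_sylow E ρ.character ⟨d, ρ, hρ, rfl⟩ hinv
    fun p hp => by
    haveI : Fact p.Prime := ⟨hp⟩
    obtain ⟨R₀⟩ := (inferInstance : Nonempty (Sylow p H))
    set R : Subgroup G := (R₀ : Subgroup H).map H.subtype with hR
    have hRH : R ≤ H := map_subtype_le _
    have hRp : IsPGroup p R := R₀.2.map _
    have hRE : R ≤ normalizer (E : Set G) := fun g _ => hnE g
    have hdisj : Disjoint E R := by
      rw [disjoint_iff]; exact eq_bot_iff.2 (hEH ▸ inf_le_inf_left E hRH)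
    have hcop : Nat.Coprime (E ⊔ R : Subgroup G).index p := by
      refine Nat.Coprime.symm ((hp.coprime_iff_not_dvd).2 ?_)
      have h1 := card_mul_index (E ⊔ R : Subgroup G)
      rw [Solvable.card_sup_of_disjoint hRE hdisj] at h1
      have h2 : Nat.card (E ⊔ H : Subgroup G) = Nat.card E * Nat.card H :=
        Solvable.card_sup_of_disjoint (fun g _ => hnE g) (disjoint_iff.2 hEH)
      rw [hEHtop, card_top] at h2
      have h3 : Nat.card R * (E ⊔ R : Subgroup G).index = Nat.card H := by
        apply Nat.eq_of_mul_eq_mul_left (Nat.card_pos (α := E))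
        rw [← mul_assoc, h1, h2]
      have h4 : Nat.card R = Nat.card (R₀ : Subgroup H) := Subgroup.card_subtype _ _
      rw [h4, ← card_mul_index (R₀ : Subgroup H)] at h3
      rw [Nat.eq_of_mul_eq_mul_left Nat.card_pos h3]
      exact R₀.not_dvd_index
    have htriv : ∀ (a : E) (b : R), (a : G) = b → a = 1 ∧ b = 1 := fun a b hab => by
      have : (a : G) = 1 := by
        have hmem : (a : G) ∈ E ⊓ R := mem_inf.2 ⟨a.2, hab ▸ b.2⟩
        rwa [hdisj.eq_bot, Subgroup.mem_bot] at hmem
      exact ⟨Subtype.ext this, Subtype.ext (hab.symm.trans this)⟩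
    refine ⟨E ⊔ R, le_sup_left, ?_⟩
    by_cases hp2 : p = 2
    · subst hp2
      obtain ⟨L, hL⟩ := hasLift (K := K) hF hRp hRE (fun g _ => hnE g)
        (fun g hg => mem_normalizer_of_cj_le fun x hx => by
          have h := hKn g (hRH hg) _ (mem_cj.1 hx)
          simpa [mul_assoc] using h) hKodd hsol hfull d ρ
        (fun w hw => by rw [show w = hF.zel from Subtype.ext hw]; exact hzρ)
      obtain ⟨σ, hσ1, -⟩ := glue hRE ρ L
        (fun b a a' h => (hL b).1 a a' h)
        (fun a b hab => by
          obtain ⟨rfl, rfl⟩ := htriv a b hab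
          rw [map_one, map_one])
      let σ' : Representation ℂ ↥(E ⊔ R) (Fin d → ℂ) := σ
      have hres : ∀ e : E, σ' ⟨(e : G), mem_sup_left e.2⟩ = ρ e := fun e => hσ1 e _ rfl
      have hσirr : σ'.IsIrreducible :=
        irreducible_of_restrict σ' ρ (fun e => ⟨(e : G), mem_sup_left e.2⟩) hres
      exact ⟨σ'.character, hcop, ⟨d, σ', hσirr, rfl⟩, fun e =>
        congrArg (LinearMap.trace ℂ _) (hres e)⟩
    · let N : Subgroup ↥(E ⊔ R) := E.subgroupOf (E ⊔ R)
      haveI : N.Normal := hEn.comap _
      let e₀ : N ≃* E := subgroupOfEquivOfLe le_sup_left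
      obtain ⟨μ₀, hμ1, -⟩ := glue (M := ℂ) hRE ((LinearMap.det).comp ρ) 1
        (fun b a a' h => by
          obtain ⟨X, hXu, hX⟩ := exists_implements hF hzρ (hnE (b : G))
          have h1 := congrArg LinearMap.det (hX a a' h)
          rw [map_mul, map_mul, mul_comm] at h1
          simp only [MonoidHom.one_apply, one_mul, mul_one, MonoidHom.comp_apply]
          exact mul_right_cancel₀ (hXu.map LinearMap.det).ne_zero h1)
        (fun a b hab => by
          obtain ⟨rfl, rfl⟩ := htriv a b hab
          rw [map_one, map_one])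
      have hNp : Nat.Coprime N.index d := by
        have h1 := card_mul_index N
        rw [Nat.card_congr e₀.toEquiv, Solvable.card_sup_of_disjoint hRE hdisj] at h1
        rw [Nat.eq_of_mul_eq_mul_left Nat.card_pos h1]
        obtain ⟨a, ha⟩ := hRp.exists_card_eq
        obtain ⟨b, hb⟩ := hEp.exists_card_eq
        rw [ha]
        exact ((Nat.coprime_primes hp Nat.prime_two).2 hp2).pow a b |>.coprime_dvd_right (hb ▸ hd)
      have hρN : Representation.IsIrreducible (ρ.comp e₀.toMonoidHom : Representation ℂ N _) :=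
        CharTwist.irreducible_comp_surjective ρ e₀.toMonoidHom e₀.surjective
      obtain ⟨η, hη, hηn⟩ := CharDeep.Extend.extends_of_det N
        (Representation.character (ρ.comp e₀.toMonoidHom : Representation ℂ N (Fin d → ℂ)))
        ⟨d, _, hρN, rfl⟩
        (fun g x => by
          refine Eq.trans ?_ (hinv (g : G) (e₀ x))
          rfl)
        d (by
          show LinearMap.trace ℂ _ ((ρ.comp e₀.toMonoidHom) 1) = _
          rw [map_one, LinearMap.trace_one, Module.finrank_fin_fun])
        hNp μ₀.toHomUnits (fun x => by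
          haveI := hρN
          rw [CharDeep.Cover.detChar_eq]
          show μ₀ (x : ↥(E ⊔ R)) = LinearMap.det (ρ (e₀ x))
          exact hμ1 (e₀ x) _ rfl)
      exact ⟨η, hcop, hη, fun e =>
        (hηn ⟨⟨(e : G), mem_sup_left e.2⟩, mem_subgroupOf.2 e.2⟩).trans rfl⟩
  exact ⟨⟨χ, hχ⟩, hχn⟩

end CfsgLib.ExtraExt
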